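import Cfsg.Agent.Lib.S3FPF.Quot
import Cfsg.Agent.Lib.Frobenius.FPFThompson

/-!
# Sections centralized by an element of a fixed-point-free Frobenius group of order `p q`
-/

open scoped commutatorElement

namespace CfsgLib.PQFPF

open CfsgLib.S3FPF

variable {K A : Type*} [Group K] [Finite K] [Group.IsSolvable K] [Group A] [Finite A]

lemma invariant_of_fixed {φ : MulAut K} {S P : Subgroup K} (hPS : P ≤ S)
    (hfix : ∀ x ∈ S, x⁻¹ * φ x ∈ P) : ∀ y ∈ P, φ y ∈ P := fun y hy => by
  have := P.mul_mem hy (hfix y (hPS hy))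
  rwa [mul_inv_cancel_left] at this

lemma map_pow_mem {φ : MulAut K} {P : Subgroup K} (h : ∀ y ∈ P, φ y ∈ P) (n : ℕ) :
    ∀ y ∈ P, (φ ^ n) y ∈ P := by
  induction n with
  | zero => intro y hy; simpa using hy
  | succ n ih => intro y hy; rw [pow_succ, MulAut.mul_apply]; exact ih _ (h y hy)

/-- The section is centralized by a generator of a complement. -/
theorem eq_of_complement_fixed (φ : A →* MulAut K) (hcop : (Nat.card A).Coprime (Nat.card K))
    (hfpf : ∀ g, (∀ a, φ a g = g) → g = 1) (p : ℕ) [Fact p.Prime] (f h : A) (hf : f ^ p = 1)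
    (e : ℕ) (hconj : h * f * h⁻¹ = f ^ e) (hne : f ^ e ≠ f)
    (hgen : Subgroup.closure ({f, h} : Set A) = ⊤)
    (S P : Subgroup K) [hSn : S.Normal] [hPn : P.Normal] (hPS : P ≤ S)
    (hSinv : ∀ a, ∀ x ∈ S, φ a x ∈ S) (hS' : ⁅S, S⁆ ≤ P) (hSK : ⁅S, (⊤ : Subgroup K)⁆ = S)
    (hfix : ∀ x ∈ S, x⁻¹ * φ h x ∈ P) : P = S := by
  classical
  by_contra hPne
  obtain ⟨P1, ⟨hPP1, hP1S, hP1n⟩, hP1max⟩ : ∃ P1 : Subgroup K, (P ≤ P1 ∧ P1 < S ∧ P1.Normal) ∧
      ∀ N : Subgroup K, (P ≤ N ∧ N < S ∧ N.Normal) → P1 ≤ N → N = P1 := by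
    obtain ⟨P1, hP1, hmax⟩ :=
      (wellFounded_gt : WellFounded ((· > ·) : Subgroup K → _ → Prop)).has_min
        {N : Subgroup K | P ≤ N ∧ N < S ∧ N.Normal} ⟨P, le_rfl, lt_of_le_of_ne hPS hPne, hPn⟩
    exact ⟨P1, hP1, fun N hN hle => by
      by_contra h
      exact hmax N hN (lt_of_le_of_ne hle (Ne.symm h))⟩
  haveI := hP1n
  have hfix1 : ∀ x ∈ S, x⁻¹ * φ h x ∈ P1 := fun x hx => hPP1 (hfix x hx)
  have hhP1 : ∀ y ∈ P1, φ h y ∈ P1 := invariant_of_fixed hP1S.le hfix1
  have hS1 : ⁅S, S⁆ ≤ P1 := hS'.trans hPP1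
  -- the commutative section
  letI : CommGroup (↥S ⧸ P1.subgroupOf S) :=
    { (inferInstance : Group (↥S ⧸ P1.subgroupOf S)) with
      mul_comm := fun a b => by
        induction a using QuotientGroup.induction_on with
        | H x =>
          induction b using QuotientGroup.induction_on with
          | H y =>
            rw [← QuotientGroup.mk_mul, ← QuotientGroup.mk_mul, QuotientGroup.eq,
              Subgroup.mem_subgroupOf]
            have h1 := hS1 (Subgroup.commutator_mem_commutator (S.inv_mem y.2) (S.inv_mem x.2))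
            simpa [commutatorElement_def, mul_assoc] using h1 }
  let π : ↥S →* ↥S ⧸ P1.subgroupOf S := QuotientGroup.mk' _
  have hπ1 : ∀ x : ↥S, π x = 1 ↔ (x : K) ∈ P1 := fun x => by
    rw [← Subgroup.mem_subgroupOf]; exact QuotientGroup.eq_one_iff x
  let act : A → (↥S →* ↥S) := fun a =>
    { toFun := fun n => ⟨φ a n, hSinv a n n.2⟩
      map_one' := Subtype.ext (map_one (φ a))
      map_mul' := fun m n => Subtype.ext (map_mul (φ a) (m : K) (n : K)) }
  have hact : ∀ a b x, act (a * b) x = act a (act b x) := fun a b x => Subtype.ext (by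
    show φ (a * b) (x : K) = φ a (φ b (x : K))
    rw [map_mul, MulAut.mul_apply])
  have hact1 : ∀ x, act 1 x = x := fun x => Subtype.ext (by
    show φ 1 (x : K) = x
    rw [map_one, MulAut.one_apply])
  have hπh : ∀ (j : ℕ) x, π (act (h ^ j) x) = π x := by
    intro j
    induction j with
    | zero => intro x; rw [pow_zero, hact1]
    | succ j ih =>
      intro x
      rw [pow_succ, hact, ih]
      exact (QuotientGroup.eq.2 (Subgroup.mem_subgroupOf.2 (hfix1 x x.2))).symm
  have hp : p.Prime := Fact.out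
  -- the norm relation
  have hnorm : ∀ x : ↥S, ∏ i ∈ Finset.range p, π (act (f ^ i) x) = 1 := by
    intro x
    let q : ↥S →* Abelianization ↥S := Abelianization.of
    let F : A → (Abelianization ↥S →* Abelianization ↥S) := fun a => Abelianization.map (act a)
    have hF : ∀ a y, F a (q y) = q (act a y) := fun a y => by simp [F, q, Abelianization.map_of]
    have hFmul : ∀ a b y, F (a * b) y = F a (F b y) := by
      intro a b y
      obtain ⟨z, rfl⟩ : ∃ z, q z = y := QuotientGroup.mk_surjective y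
      rw [hF, hF, hF, hact]
    have hF1 : ∀ y, F 1 y = y := by
      intro y
      obtain ⟨z, rfl⟩ : ∃ z, q z = y := QuotientGroup.mk_surjective y
      rw [hF, hact1]
    let N : Abelianization ↥S := ∏ i ∈ Finset.range p, q (act (f ^ i) x)
    let M : Abelianization ↥S := ∏ j ∈ Finset.range (orderOf h), F (h ^ j) N
    have hNf : ∀ n : ℕ, F (f ^ n) N = N := by
      intro n
      induction n with
      | zero => rw [pow_zero, hF1]
      | succ n ih =>
        rw [pow_succ, hFmul]
        convert ih using 2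
        simp only [N, map_prod, hF, ← hact, ← pow_succ']
        obtain ⟨r, hr⟩ : ∃ r, p = r + 1 := ⟨p - 1, (Nat.succ_pred_eq_of_pos hp.pos).symm⟩
        rw [hr, Finset.prod_range_succ, ← hr, hf, hr, Finset.prod_range_succ' _ r, pow_zero]
    have hMh : F h M = M := by
      simp only [M, map_prod, ← hFmul, ← pow_succ']
      obtain ⟨r, hr⟩ : ∃ r, orderOf h = r + 1 :=
        ⟨orderOf h - 1, (Nat.succ_pred_eq_of_pos (orderOf_pos h)).symm⟩
      rw [hr, Finset.prod_range_succ, ← hr, pow_orderOf_eq_one, hF1, hr,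
        Finset.prod_range_succ' _ r, pow_zero, hF1]
    have hpush : ∀ j : ℕ, ∃ n : ℕ, f * h ^ j = h ^ j * f ^ n := by
      intro j
      have hinv : ∃ n : ℕ, h⁻¹ * f * h = f ^ n := by
        have key : ∀ j : ℕ, ∃ n : ℕ, h ^ j * f * (h ^ j)⁻¹ = f ^ n := by
          intro j
          induction j with
          | zero => exact ⟨1, by simp⟩
          | succ j ih =>
            obtain ⟨n, hn⟩ := ih
            refine ⟨e * n, ?_⟩
            calc h ^ (j + 1) * f * (h ^ (j + 1))⁻¹ = h * (h ^ j * f * (h ^ j)⁻¹) * h⁻¹ := by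
                  rw [pow_succ']; group
              _ = _ := by rw [hn, ← conj_pow, hconj, pow_mul]
        obtain ⟨n, hn⟩ := key (orderOf h - 1)
        refine ⟨n, ?_⟩
        have hh : h ^ (orderOf h - 1) = h⁻¹ := eq_inv_of_mul_eq_one_left (by
          rw [← pow_succ, Nat.sub_add_cancel (orderOf_pos h), pow_orderOf_eq_one])
        rw [← hn, hh, inv_inv]
      obtain ⟨m, hm⟩ := hinv
      induction j with
      | zero => exact ⟨1, by simp⟩
      | succ j ih =>
        obtain ⟨n, hn⟩ := ih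
        refine ⟨m * n, ?_⟩
        calc f * h ^ (j + 1) = (f * h ^ j) * h := by rw [pow_succ, mul_assoc]
          _ = h ^ (j + 1) * (h⁻¹ * f * h⁻¹⁻¹) ^ n := by
              rw [hn, conj_pow, inv_inv, pow_succ]; group
          _ = _ := by rw [inv_inv, hm, pow_mul]
    have hMf : F f M = M := by
      simp only [M, map_prod]
      refine Finset.prod_congr rfl fun j _ => ?_
      obtain ⟨n, hn⟩ := hpush j
      rw [← hFmul, hn, hFmul, hNf]
    have hMfix : ∀ a, F a M = M := by
      intro a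
      let St : Submonoid A :=
        { carrier := {a | F a M = M}
          one_mem' := hF1 M
          mul_mem' := fun {a b} (ha : F a M = M) (hb : F b M = M) => by
            show F (a * b) M = M
            rw [hFmul, hb, ha] }
      have hle : Submonoid.closure ({f, h} : Set A) ≤ St := by
        rw [Submonoid.closure_le]
        rintro a (rfl | rfl)
        · exact hMf
        · exact hMh
      apply hle
      rw [← Subgroup.closure_toSubmonoid_of_finite, hgen]
      trivial
    obtain ⟨y, hy⟩ : ∃ y, q y = M := QuotientGroup.mk_surjective M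
    have hD : ∀ n : ↥S, q n = 1 ↔ (n : K) ∈ ⁅S, S⁆ := by
      intro n
      rw [← Subgroup.map_subtype_commutator, Subgroup.mem_map]
      constructor
      · intro hn; exact ⟨n, (QuotientGroup.eq_one_iff _).1 hn, rfl⟩
      · rintro ⟨n', hn', e'⟩
        rw [← Subtype.ext e']; exact (QuotientGroup.eq_one_iff _).2 hn'
    have hyD : (y : K) ∈ ⁅S, S⁆ := by
      refine mem_of_invariant_coset φ hcop hfpf _ (fun a n hn => ?_) _ (fun a => ?_)
      · have hle : (⁅S, S⁆).map (φ a).toMonoidHom ≤ ⁅S, S⁆ := by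
          rw [Subgroup.map_commutator]
          apply Subgroup.commutator_mono <;>
          · rintro _ ⟨k, hk, rfl⟩; exact hSinv a k hk
        exact hle (Subgroup.mem_map_of_mem _ hn)
      · have : ((y⁻¹ * act a y : ↥S) : K) ∈ ⁅S, S⁆ := (hD _).1 (by
          rw [map_mul, map_inv, ← hF, hy, hMfix, inv_mul_cancel])
        exact this
    -- transfer to the section
    let qπ : Abelianization ↥S →* ↥S ⧸ P1.subgroupOf S := Abelianization.lift π
    have hqπ : ∀ z, qπ (q z) = π z := fun z => Abelianization.lift_apply_of π z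
    have hqπh : ∀ (j : ℕ) z, qπ (F (h ^ j) z) = qπ z := by
      intro j z
      obtain ⟨w, rfl⟩ : ∃ w, q w = z := QuotientGroup.mk_surjective z
      rw [hF, hqπ, hqπ, hπh]
    have h1 : qπ M = 1 := by
      rw [← hy, (hD y).2 hyD, map_one]
    simp only [M, map_prod, hqπh, Finset.prod_const, Finset.card_range] at h1
    simp only [N, map_prod, hqπ] at h1
    refine eq_one_of_pow_of_pow h1 (pow_card_eq_one' (G := ↥S ⧸ P1.subgroupOf S)) ?_
    exact ((hcop.coprime_dvd_left (orderOf_dvd_natCard h)).coprime_dvd_right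
      ((Subgroup.card_quotient_dvd_card _).trans (Subgroup.card_subgroup_dvd_card S)))
  -- the kernels
  let W : ℕ → Subgroup K := fun i => S ⊓ P1.comap (φ (f ^ i)).toMonoidHom
  haveI : ∀ i, (W i).Normal := fun i => by
    haveI : (P1.comap (φ (f ^ i)).toMonoidHom).Normal := Subgroup.Normal.comap hP1n _
    exact Subgroup.normal_inf_normal _ _
  obtain ⟨U, hU0, hUsucc⟩ : ∃ U : ℕ → Subgroup K, U 0 = S ∧ ∀ n, U (n + 1) = U n ⊓ W (n + 1) :=
    ⟨fun n => Nat.rec S (fun j T => T ⊓ W (j + 1)) n, rfl, fun _ => rfl⟩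
  have hUS : ∀ n, U n ≤ S := by
    intro n
    induction n with
    | zero => exact hU0.le
    | succ n ih => rw [hUsucc]; exact inf_le_left.trans ih
  have hUn : ∀ n, (U n).Normal := by
    intro n
    induction n with
    | zero => rw [hU0]; exact hSn
    | succ n ih =>
      rw [hUsucc]
      exact @Subgroup.normal_inf_normal K _ (U n) (W (n + 1)) ih inferInstance
  have hUW : ∀ n i, 1 ≤ i → i ≤ n → U n ≤ W i := by
    intro n
    induction n with
    | zero => intro i h1 h2; omega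
    | succ n ih =>
      intro i h1 h2
      rcases Nat.lt_or_ge i (n + 1) with h3 | h3
      · rw [hUsucc]; exact inf_le_left.trans (ih i h1 (by omega))
      · rw [show i = n + 1 by omega, hUsucc]; exact inf_le_right
  have hlast : U (p - 1) ≤ P1 := by
    intro x hx
    have hxS := hUS _ hx
    have h0 := hnorm ⟨x, hxS⟩
    rw [Finset.prod_eq_single 0] at h0
    · rw [pow_zero, hact1, hπ1] at h0; exact h0
    · intro i hi hi0
      rw [hπ1]
      exact (hUW (p - 1) i (Nat.one_le_iff_ne_zero.2 hi0) (by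
        have := Finset.mem_range.1 hi; omega) hx).2
    · intro h'; exact absurd (Finset.mem_range.2 hp.pos) h'
  obtain ⟨j, hjp, hUj, hUj1⟩ : ∃ j, j < p - 1 ∧ ¬ U j ≤ P1 ∧ U j ⊓ W (j + 1) ≤ P1 := by
    by_contra hcon
    push Not at hcon
    have : ∀ j, j ≤ p - 1 → ¬ U j ≤ P1 := by
      intro j
      induction j with
      | zero => intro _ h'; rw [hU0] at h'; exact absurd (le_antisymm hP1S.le h') hP1S.ne
      | succ j ih => intro hj; rw [hUsucc]; exact hcon j (by omega) (ih (by omega))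
    exact this _ le_rfl hlast
  set i := j + 1 with hi
  haveI := hUn j
  have hmaxW : ∀ N : Subgroup K, N.Normal → P1 ≤ N → N ≤ S → N = P1 ∨ N = S := by
    intro N hN h1 h2
    rcases eq_or_lt_of_le h2 with h3 | h3
    · exact Or.inr h3
    · exact Or.inl (hP1max N ⟨hPP1.trans h1, h3, hN⟩ h1)
  have hmaxWi : ∀ N : Subgroup K, N.Normal → W i ≤ N → N ≤ S → N = W i ∨ N = S := by
    intro N hN h1 h2
    have hinv' : ∀ y, φ (f ^ i) (φ (f ^ i)⁻¹ y) = y := fun y => by
      rw [← MulAut.mul_apply, ← map_mul, mul_inv_cancel, map_one, MulAut.one_apply]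
    have hN' : (N.map (φ (f ^ i)).toMonoidHom).Normal :=
      Subgroup.Normal.map hN _ (φ (f ^ i)).surjective
    rcases hmaxW _ hN' (fun y hy => ⟨φ (f ^ i)⁻¹ y, h1 ⟨hSinv _ y (hP1S.le hy), by
        show φ (f ^ i) (φ (f ^ i)⁻¹ y) ∈ P1
        rw [hinv']; exact hy⟩, hinv' y⟩) (by
        rintro _ ⟨y, hy, rfl⟩; exact hSinv _ y (h2 hy)) with h3 | h3
    · left
      refine le_antisymm (fun y hy => ⟨h2 hy, ?_⟩) h1
      show φ (f ^ i) y ∈ P1
      rw [← h3]; exact Subgroup.mem_map_of_mem _ hy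
    · right
      refine le_antisymm h2 fun y hy => ?_
      have : φ (f ^ i) y ∈ N.map (φ (f ^ i)).toMonoidHom := h3 ▸ hSinv _ y hy
      obtain ⟨z, hz, hzy⟩ := this
      rwa [← (φ (f ^ i)).injective hzy]
  have hgenP : U j ⊔ P1 = S := by
    rcases hmaxW (U j ⊔ P1) inferInstance le_sup_right (sup_le (hUS j) hP1S.le) with h' | h'
    · exact absurd (le_sup_left.trans h'.le) hUj
    · exact h'
  have hWiS : W i ≤ S := inf_le_left
  have hgenW : U j ⊔ W i = S := by
    rcases hmaxWi (U j ⊔ W i) inferInstance le_sup_right (sup_le (hUS j) hWiS) with h' | h'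
    · exact absurd ((le_inf le_rfl (le_sup_left.trans h'.le)).trans hUj1) hUj
    · exact h'
  have hUeq : U j ⊓ P1 = U j ⊓ W i := by
    refine le_antisymm ?_ (le_inf inf_le_left hUj1)
    rcases hmaxWi ((U j ⊓ P1) ⊔ W i) inferInstance le_sup_right
      (sup_le (inf_le_left.trans (hUS j)) hWiS) with h' | h'
    · exact le_inf inf_le_left (le_sup_left.trans h'.le)
    · exfalso
      apply hUj
      intro u hu
      have hu' : u ∈ (U j ⊓ P1) ⊔ W i := h' ▸ hUS j hu
      obtain ⟨a, ha, b, hb, rfl⟩ := Subgroup.mem_sup_of_normal_right.1 hu'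
      have hbU : b ∈ U j := ((U j).mul_mem_cancel_left ha.1).1 hu
      exact P1.mul_mem ha.2 (hUj1 ⟨hbU, hb⟩)
  -- the centralizer of the section
  let C0 : Subgroup K :=
    { carrier := {x | ∀ m ∈ S, ⁅x, m⁆ ∈ P1}
      one_mem' := fun m _ => by simp [commutatorElement_def]
      mul_mem' := fun {x y} hx hy m hm => by
        have e' : ⁅x * y, m⁆ = x * ⁅y, m⁆ * x⁻¹ * ⁅x, m⁆ := by
          rw [commutatorElement_def, commutatorElement_def, commutatorElement_def]; group
        rw [e']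
        exact P1.mul_mem (hP1n.conj_mem _ (hy m hm) x) (hx m hm)
      inv_mem' := fun {x} hx m hm => by
        have e' : ⁅x⁻¹, m⁆ = x⁻¹ * ⁅x, m⁆⁻¹ * x⁻¹⁻¹ := by
          rw [commutatorElement_def, commutatorElement_def]; group
        rw [e']
        exact hP1n.conj_mem _ (P1.inv_mem (hx m hm)) _ }
  have hC0iff : ∀ (V : Subgroup K), V.Normal → V ≤ S → U j ⊔ V = S →
      ∀ x : K, (∀ m ∈ S, ⁅x, m⁆ ∈ V) ↔ ∀ u ∈ U j, ⁅x, u⁆ ∈ V := by
    intro V hV hVS hsup x
    refine ⟨fun hx u hu => hx u (hUS j hu), fun hx m hm => ?_⟩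
    haveI := hV
    rw [← hsup] at hm
    obtain ⟨u, hu, v, hv, rfl⟩ := Subgroup.mem_sup_of_normal_right.1 hm
    have e' : ⁅x, u * v⁆ = ⁅x, u⁆ * (u * ⁅x, v⁆ * u⁻¹) := by
      rw [commutatorElement_def, commutatorElement_def, commutatorElement_def]; group
    rw [e']
    refine V.mul_mem (hx u hu) (hV.conj_mem _ ?_ u)
    rw [commutatorElement_def]
    exact V.mul_mem (hV.conj_mem v hv x) (V.inv_mem hv)
  have hcom : ∀ x u : K, u ∈ U j → ⁅x, u⁆ ∈ U j := fun x u hu => by
    rw [commutatorElement_def]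
    exact (U j).mul_mem ((hUn j).conj_mem u hu x) ((U j).inv_mem hu)
  have hC0W : ∀ x : K, x ∈ C0 ↔ ∀ m ∈ S, ⁅x, m⁆ ∈ W i := by
    intro x
    rw [show x ∈ C0 ↔ ∀ m ∈ S, ⁅x, m⁆ ∈ P1 from Iff.rfl,
      hC0iff P1 hP1n hP1S.le hgenP x, hC0iff (W i) inferInstance hWiS hgenW x]
    refine forall₂_congr fun u hu => ⟨fun h' => ?_, fun h' => ?_⟩
    · exact (hUeq.le ⟨hcom x u hu, h'⟩).2
    · exact hUj1 ⟨hcom x u hu, h'⟩
  have hC0fi : ∀ x ∈ C0, φ (f ^ i) x ∈ C0 := by
    intro x hx m hm
    have h1 : φ (f ^ i) ⁅x, φ (f ^ i)⁻¹ m⁆ ∈ P1 :=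
      ((hC0W x).1 hx (φ (f ^ i)⁻¹ m) (hSinv _ m hm)).2
    rw [map_commutatorElement, ← MulAut.mul_apply, ← map_mul, mul_inv_cancel, map_one,
        MulAut.one_apply] at h1
    exact h1
  have hC0f : ∀ x ∈ C0, φ f x ∈ C0 := by
    intro x hx
    have hidvd : ¬ p ∣ i := fun hd => absurd (Nat.le_of_dvd (by omega) hd) (by omega)
    obtain ⟨l, -, hl⟩ := Nat.exists_mul_mod_eq_of_coprime 1
      ((hp.coprime_iff_not_dvd.2 hidvd).symm) hp.ne_zero
    have hfl : (f ^ i) ^ l = f := by
      rw [← pow_mul]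
      conv_rhs => rw [← pow_one f]
      exact pow_eq_pow_iff_modEq.2 ((show i * l ≡ 1 [MOD p] from hl).of_dvd
        (orderOf_dvd_of_pow_eq_one hf))
    rw [← hfl, map_pow]
    exact map_pow_mem hC0fi l x hx
  have hC0h : ∀ x, x⁻¹ * φ h x ∈ C0 := by
    intro x m hm
    -- modulo `P1` the element `h` fixes both sides
    have hm' : x * m * x⁻¹ ∈ S := hSn.conj_mem m hm x
    have h1 := hfix1 _ hm'
    have h2 := hfix1 m hm
    simp only [map_mul, map_inv] at h1
    have e' : ⁅x⁻¹ * φ h x, m⁆ =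
        x⁻¹ * ((φ h x * m * (φ h x)⁻¹) * (x * m * x⁻¹)⁻¹) * x⁻¹⁻¹ := by
      rw [commutatorElement_def]; group
    rw [e']
    refine hP1n.conj_mem _ ?_ _
    have h3 : φ h x * m * (φ h x)⁻¹ * (x * m * x⁻¹)⁻¹ =
        (φ h x * (m * (φ h m)⁻¹) * (φ h x)⁻¹) *
          ((x * m * x⁻¹) * ((x * m * x⁻¹)⁻¹ * (φ h x * φ h m * (φ h x)⁻¹)) * (x * m * x⁻¹)⁻¹) := by
      group
    rw [h3]
    refine P1.mul_mem (hP1n.conj_mem _ ?_ _) (hP1n.conj_mem _ h1 _)
    have : m * (φ h m)⁻¹ = m * (m⁻¹ * φ h m)⁻¹ * m⁻¹ := by group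
    rw [this]
    exact hP1n.conj_mem _ (P1.inv_mem h2) m
  have hC0n : C0.Normal := ⟨fun x hx y m hm => by
    have e' : ⁅y * x * y⁻¹, m⁆ = y * ⁅x, y⁻¹ * m * y⁻¹⁻¹⁆ * y⁻¹ := by
      rw [commutatorElement_def, commutatorElement_def]; group
    rw [e']
    exact hP1n.conj_mem _ (hx _ (hSn.conj_mem m hm _)) y⟩
  haveI := hC0n
  have hC0hinv : ∀ x ∈ C0, φ h x ∈ C0 := fun x hx => by
    have := C0.mul_mem hx (hC0h x); rwa [mul_inv_cancel_left] at this
  have hstep : ∀ x, (φ f x)⁻¹ * φ (f ^ e) x ∈ C0 := by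
    intro x
    obtain ⟨y, rfl⟩ : ∃ y, φ h y = x := ⟨φ h⁻¹ x, by
      rw [← MulAut.mul_apply, ← map_mul, mul_inv_cancel, map_one, MulAut.one_apply]⟩
    rw [← hconj, map_mul, map_mul, MulAut.mul_apply, MulAut.mul_apply,
      show φ h⁻¹ (φ h y) = y by
        rw [← MulAut.mul_apply, ← map_mul, inv_mul_cancel, map_one, MulAut.one_apply]]
    -- `f (h y) ≡ f y ≡ h (f y)`
    have h1 := hC0f _ (hC0h y)
    rw [map_mul, map_inv] at h1
    have h2 := hC0h (φ f y)
    have e' : (φ f (φ h y))⁻¹ * φ h (φ f y) =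
        ((φ f y)⁻¹ * φ f (φ h y))⁻¹ * ((φ f y)⁻¹ * φ h (φ f y)) := by group
    rw [e']
    exact C0.mul_mem (C0.inv_mem h1) h2
  -- `f` is trivial on the quotient
  have hfC : ∀ x, x⁻¹ * φ f x ∈ C0 := by
    obtain ⟨d, hd⟩ : ∃ d, d = e + p - 1 := ⟨_, rfl⟩
    have hfd : f ^ (d + 1) = f ^ e := by
      rw [hd, Nat.sub_add_cancel (by have := hp.pos; omega), pow_add, hf, mul_one]
    have hdstep : ∀ x, x⁻¹ * φ (f ^ d) x ∈ C0 := by
      intro x
      obtain ⟨y, rfl⟩ : ∃ y, φ f y = x := ⟨φ f⁻¹ x, by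
        rw [← MulAut.mul_apply, ← map_mul, mul_inv_cancel, map_one, MulAut.one_apply]⟩
      rw [← MulAut.mul_apply, ← map_mul, ← pow_succ, hfd]
      exact hstep y
    have hdn : ¬ p ∣ d := by
      intro hpd
      apply hne
      rw [← hfd, pow_succ]
      obtain ⟨c, rfl⟩ := hpd
      rw [pow_mul, hf, one_pow, one_mul]
    obtain ⟨l, -, hl⟩ := Nat.exists_mul_mod_eq_of_coprime 1
      ((hp.coprime_iff_not_dvd.2 hdn).symm) hp.ne_zero
    have hfl : (f ^ d) ^ l = f := by
      rw [← pow_mul]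
      conv_rhs => rw [← pow_one f]
      exact pow_eq_pow_iff_modEq.2 ((show d * l ≡ 1 [MOD p] from hl).of_dvd
        (orderOf_dvd_of_pow_eq_one hf))
    have hall : ∀ n : ℕ, ∀ x, x⁻¹ * φ ((f ^ d) ^ n) x ∈ C0 := by
      intro n
      induction n with
      | zero => intro x; simp [C0.one_mem]
      | succ n ih =>
        intro x
        rw [pow_succ', map_mul, MulAut.mul_apply]
        have h1 := hdstep (φ ((f ^ d) ^ n) x)
        have := C0.mul_mem (ih x) h1
        rwa [mul_assoc, mul_inv_cancel_left] at this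
    intro x
    have := hall l x
    rwa [hfl] at this
  -- hence everything is trivial on the quotient
  let St : Submonoid A :=
    { carrier := {a | (∀ y ∈ C0, φ a y ∈ C0) ∧ ∀ x, x⁻¹ * φ a x ∈ C0}
      one_mem' := ⟨fun y hy => by simpa using hy, fun x => by simp [C0.one_mem]⟩
      mul_mem' := fun {a b} ha hb => ⟨fun y hy => by
          rw [map_mul, MulAut.mul_apply]; exact ha.1 _ (hb.1 y hy), fun x => by
          rw [map_mul, MulAut.mul_apply]
          have := C0.mul_mem (hb.2 x) (ha.2 (φ b x))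
          rwa [mul_assoc, mul_inv_cancel_left] at this⟩ }
  have hSt : ∀ a, a ∈ St := by
    have hle : Submonoid.closure ({f, h} : Set A) ≤ St := by
      rw [Submonoid.closure_le]
      rintro a (rfl | rfl)
      · exact ⟨hC0f, hfC⟩
      · exact ⟨hC0hinv, hC0h⟩
    intro a
    apply hle
    rw [← Subgroup.closure_toSubmonoid_of_finite, hgen]
    trivial
  have hC0top : ∀ x, x ∈ C0 := fun x =>
    mem_of_invariant_coset φ hcop hfpf C0 (fun a => (hSt a).1) x (fun a => (hSt a).2 x)
  apply hP1S.ne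
  refine le_antisymm hP1S.le ?_
  conv_lhs => rw [← hSK]
  rw [Subgroup.commutator_comm, Subgroup.commutator_le]
  intro x _ m hm
  exact hC0top x m hm

/-- The section is centralized by the kernel. -/
theorem eq_of_kernel_fixed (φ : A →* MulAut K) (hcop : (Nat.card A).Coprime (Nat.card K))
    (hfpf : ∀ g, (∀ a, φ a g = g) → g = 1) (f h : A) (q : ℕ) (hq : q.Prime) (hhq : h ^ q = 1)
    (e : ℕ) (hconj : h * f * h⁻¹ = f ^ e)
    (hgen : Subgroup.closure ({f, h} : Set A) = ⊤)
    (S P : Subgroup K) [hSn : S.Normal] [hPn : P.Normal] (hPS : P ≤ S)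
    (hSinv : ∀ a, ∀ x ∈ S, φ a x ∈ S) (hSK : ⁅S, (⊤ : Subgroup K)⁆ = S)
    (hfix : ∀ x ∈ S, x⁻¹ * φ f x ∈ P) : P = S := by
  classical
  haveI : Finite K := inferInstance
  let Af : Subgroup A := Subgroup.zpowers f
  let φ0 : ↥Af →* MulAut K := φ.comp Af.subtype
  have hcop0 : (Nat.card ↥Af).Coprime (Nat.card K) :=
    hcop.coprime_dvd_left (Subgroup.card_subgroup_dvd_card _)
  have hPinv : ∀ y ∈ P, φ f y ∈ P := invariant_of_fixed hPS hfix
  have hAf : ∀ a : ↥Af, ∃ n : ℕ, f ^ n = (a : A) := fun a =>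
    (isOfFinOrder_of_finite f).mem_powers_iff_mem_zpowers.2 a.2
  have hPinv0 : ∀ a : ↥Af, ∀ y ∈ P, φ0 a y ∈ P := fun a y hy => by
    obtain ⟨n, hn⟩ := hAf a
    show φ (a : A) y ∈ P
    rw [← hn, map_pow]; exact map_pow_mem hPinv n y hy
  have hlift : ∀ (N : Subgroup K), (∀ y ∈ N, φ f y ∈ N) → ∀ x, x⁻¹ * φ f x ∈ N →
      ∃ c, x⁻¹ * c ∈ N ∧ φ f c = c := by
    intro N hN x hx
    have hpowN : ∀ (n : ℕ) (z : K), z⁻¹ * φ f z ∈ N → z⁻¹ * φ (f ^ n) z ∈ N := by
      intro n
      induction n with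
      | zero => intro z _; simp [N.one_mem]
      | succ n ih =>
        intro z hz
        rw [pow_succ, map_mul, MulAut.mul_apply]
        have hz' : (φ f z)⁻¹ * φ f (φ f z) ∈ N := by simpa using hN _ hz
        have := N.mul_mem hz (ih _ hz')
        rwa [mul_assoc, mul_inv_cancel_left] at this
    obtain ⟨c, hc, hcf⟩ := exists_fixed_in_coset φ0 hcop0 N (fun a n hn => by
      obtain ⟨i, hi⟩ := hAf a
      show φ (a : A) n ∈ N
      rw [← hi, map_pow]; exact map_pow_mem hN i n hn) x (fun a => by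
      obtain ⟨i, hi⟩ := hAf a
      show x⁻¹ * φ (a : A) x ∈ N
      rw [← hi]; exact hpowN i x hx)
    exact ⟨c, hc, hcf ⟨f, Subgroup.mem_zpowers f⟩⟩
  let C : Subgroup K :=
    { carrier := {x | φ f x = x}
      one_mem' := map_one _
      mul_mem' := fun {x y} (hx : φ f x = x) (hy : φ f y = y) =>
        show φ f (x * y) = x * y by rw [map_mul, hx, hy]
      inv_mem' := fun {x} (hx : φ f x = x) => show φ f x⁻¹ = x⁻¹ by rw [map_inv, hx] }
  -- it is nilpotent
  have hCnil : Group.IsNilpotent ↥C := by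
    have hfe : ∀ (n : ℕ) x, x ∈ C → φ (f ^ n) x = x := by
      intro n
      induction n with
      | zero => simp
      | succ n ih => intro x hx; rw [pow_succ, map_mul, MulAut.mul_apply, show φ f x = x from hx, ih x hx]
    have hhC : ∀ x ∈ C, φ h x ∈ C := by
      intro x hx
      show φ f (φ h x) = φ h x
      obtain ⟨n, hn⟩ : ∃ n : ℕ, h⁻¹ * f * h = f ^ n := by
        have key : ∀ j : ℕ, ∃ n : ℕ, h ^ j * f * (h ^ j)⁻¹ = f ^ n := by
          intro j
          induction j with
          | zero => exact ⟨1, by simp⟩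
          | succ j ih =>
            obtain ⟨n, hn⟩ := ih
            refine ⟨e * n, ?_⟩
            calc h ^ (j + 1) * f * (h ^ (j + 1))⁻¹ = h * (h ^ j * f * (h ^ j)⁻¹) * h⁻¹ := by
                  rw [pow_succ']; group
              _ = _ := by rw [hn, ← conj_pow, hconj, pow_mul]
        obtain ⟨n, hn⟩ := key (q - 1)
        refine ⟨n, ?_⟩
        have hh : h ^ (q - 1) = h⁻¹ := eq_inv_of_mul_eq_one_left (by
          rw [← pow_succ, Nat.sub_add_cancel hq.pos, hhq])
        rw [← hn, hh, inv_inv]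
      rw [← MulAut.mul_apply, ← map_mul, show f * h = h * f ^ n by rw [← hn]; group, map_mul,
        MulAut.mul_apply, hfe n x hx]
    let hres : ↥C →* ↥C :=
      { toFun := fun x => ⟨φ h x, hhC x x.2⟩
        map_one' := Subtype.ext (map_one _)
        map_mul' := fun x y => Subtype.ext (map_mul (φ h) (x : K) (y : K)) }
    have hbij : Function.Bijective hres := Finite.injective_iff_bijective.1 fun x y hxy =>
      Subtype.ext ((φ h).injective (congrArg Subtype.val hxy))
    let he : ↥C ≃* ↥C := MulEquiv.ofBijective hres hbij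
    have hfix0 : ∀ x, he x = x → x = 1 := by
      intro x hx
      apply Subtype.ext
      apply hfpf
      intro a
      let St : Submonoid A :=
        { carrier := {a | φ a (x : K) = x}
          one_mem' := by simp
          mul_mem' := fun {a b} (ha : φ a (x : K) = x) (hb : φ b (x : K) = x) => by
            show φ (a * b) (x : K) = x
            rw [map_mul, MulAut.mul_apply, hb, ha] }
      have hle : Submonoid.closure ({f, h} : Set A) ≤ St := by
        rw [Submonoid.closure_le]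
        rintro a (rfl | rfl)
        · exact x.2
        · exact congrArg Subtype.val hx
      apply hle
      rw [← Subgroup.closure_toSubmonoid_of_finite, hgen]
      trivial
    refine CfsgLib.Frobenius.Thompson.isNilpotent_of_fixedPointFree he hfix0 hq ?_
    intro x
    have : ∀ (n : ℕ) (y : ↥C), (((⇑he)^[n]) y : K) = φ (h ^ n) y := by
      intro n
      induction n with
      | zero => simp
      | succ n ih =>
        intro y
        rw [Function.iterate_succ_apply', pow_succ', map_mul, MulAut.mul_apply, ← ih]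
        rfl
    apply Subtype.ext
    rw [this, hhq, map_one, MulAut.one_apply]
  obtain ⟨l, hl⟩ := Subgroup.nilpotent_iff_lowerCentralSeries.1 hCnil
  have hK : ∀ x : K, ∃ c : K, φ f c = c ∧ ∀ m ∈ S, ⁅x⁻¹ * c, m⁆ ∈ P := by
    intro x
    let C0 : Subgroup K :=
      { carrier := {x | ∀ m ∈ S, ⁅x, m⁆ ∈ P}
        one_mem' := fun m _ => by simp [commutatorElement_def]
        mul_mem' := fun {x y} hx hy m hm => by
          have e' : ⁅x * y, m⁆ = x * ⁅y, m⁆ * x⁻¹ * ⁅x, m⁆ := by
            rw [commutatorElement_def, commutatorElement_def, commutatorElement_def]; group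
          rw [e']
          exact P.mul_mem (hPn.conj_mem _ (hy m hm) x) (hx m hm)
        inv_mem' := fun {x} hx m hm => by
          have e' : ⁅x⁻¹, m⁆ = x⁻¹ * ⁅x, m⁆⁻¹ * x⁻¹⁻¹ := by
            rw [commutatorElement_def, commutatorElement_def]; group
          rw [e']
          exact hPn.conj_mem _ (P.inv_mem (hx m hm)) _ }
    have hinv : ∀ y ∈ C0, φ f y ∈ C0 := by
      intro y hy m hm
      have h1 := hPinv _ (hy (φ f⁻¹ m) (hSinv _ m hm))
      rw [map_commutatorElement, ← MulAut.mul_apply, ← map_mul, mul_inv_cancel, map_one,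
        MulAut.one_apply] at h1
      exact h1
    have hfC : x⁻¹ * φ f x ∈ C0 := by
      intro m hm
      have hm' : x * m * x⁻¹ ∈ S := hSn.conj_mem m hm x
      have h1 := hfix _ hm'
      have h2 := hfix m hm
      simp only [map_mul, map_inv] at h1
      have e' : ⁅x⁻¹ * φ f x, m⁆ =
          x⁻¹ * ((φ f x * m * (φ f x)⁻¹) * (x * m * x⁻¹)⁻¹) * x⁻¹⁻¹ := by
        rw [commutatorElement_def]; group
      rw [e']
      refine hPn.conj_mem _ ?_ _
      have h3 : φ f x * m * (φ f x)⁻¹ * (x * m * x⁻¹)⁻¹ =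
          (φ f x * (m * (φ f m)⁻¹) * (φ f x)⁻¹) *
            ((x * m * x⁻¹) * ((x * m * x⁻¹)⁻¹ * (φ f x * φ f m * (φ f x)⁻¹)) *
              (x * m * x⁻¹)⁻¹) := by
        group
      rw [h3]
      refine P.mul_mem (hPn.conj_mem _ ?_ _) (hPn.conj_mem _ h1 _)
      have : m * (φ f m)⁻¹ = m * (m⁻¹ * φ f m)⁻¹ * m⁻¹ := by group
      rw [this]
      exact hPn.conj_mem _ (P.inv_mem h2) m
    obtain ⟨c, hc, hcf⟩ := hlift C0 hinv x hfC
    exact ⟨c, hcf, hc⟩
  have main : ∀ n, S ≤ ((⊤ : Subgroup ↥C).lowerCentralSeries n).map C.subtype ⊔ P := by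
    intro n
    induction n with
    | zero =>
      intro x hx
      obtain ⟨c, hc, hcf⟩ := hlift P hPinv x (hfix x hx)
      have : x = c * (c⁻¹ * x) := by group
      rw [this]
      refine Subgroup.mul_mem_sup ?_ (by simpa using P.inv_mem hc)
      rw [Subgroup.lowerCentralSeries_zero, ← MonoidHom.range_eq_map, Subgroup.range_subtype]
      exact hcf
    | succ n ih =>
      conv_lhs => rw [← hSK]
      rw [Subgroup.commutator_le]
      intro s hs x _
      obtain ⟨c', hc', hd⟩ := hK x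
      obtain ⟨c, hc, u, hu, rfl⟩ := Subgroup.mem_sup_of_normal_right.1 (ih hs)
      obtain ⟨⟨c0, hc0⟩, hc0γ, rfl⟩ := hc
      have hd' : ⁅c' * (c'⁻¹ * x), c0 * u⁆ ∈
          ((⊤ : Subgroup ↥C).lowerCentralSeries (n + 1)).map C.subtype ⊔ P := by
        have hxd : ⁅c'⁻¹ * x, c0 * u⁆ ∈ P := by
          have h1 := hd _ hs
          have e' : ⁅c'⁻¹ * x, c0 * u⁆ =
              (c'⁻¹ * x) * ⁅x⁻¹ * c', c0 * u⁆⁻¹ * (c'⁻¹ * x)⁻¹ := by
            rw [commutatorElement_def, commutatorElement_def]; group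
          rw [e']
          exact hPn.conj_mem _ (P.inv_mem h1) _
        have e' : ⁅c' * (c'⁻¹ * x), c0 * u⁆ = c' * ⁅c'⁻¹ * x, c0 * u⁆ * c'⁻¹ *
            (⁅c', c0⁆ * (c0 * ⁅c', u⁆ * c0⁻¹)) := by
          rw [commutatorElement_def, commutatorElement_def, commutatorElement_def,
            commutatorElement_def]; group
        rw [e']
        refine Subgroup.mul_mem _ (Subgroup.mem_sup_right (hPn.conj_mem _ hxd _))
          (Subgroup.mul_mem_sup ?_ (hPn.conj_mem _ ?_ _))
        · rw [← commutatorElement_inv]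
          refine Subgroup.inv_mem _ ⟨⁅(⟨c0, hc0⟩ : ↥C), (⟨c', hc'⟩ : ↥C)⁆, ?_, ?_⟩
          · rw [Subgroup.lowerCentralSeries_succ]
            exact Subgroup.commutator_mem_commutator hc0γ (Subgroup.mem_top _)
          · exact map_commutatorElement C.subtype _ _
        · rw [commutatorElement_def]
          exact P.mul_mem (hPn.conj_mem u hu c') (P.inv_mem hu)
      rw [mul_inv_cancel_left] at hd'
      rw [← commutatorElement_inv]
      exact Subgroup.inv_mem _ hd'
  have hfinal := main l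
  rw [hl, Subgroup.map_bot, bot_sup_eq] at hfinal
  exact le_antisymm hPS hfinal

end CfsgLib.PQFPF
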