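import Mathlib

/-!
# Elements commuting with an irreducible isometry of order `2 ^ m + 1`
-/

namespace CfsgLib.PQFPF

lemma dvd_two_pow_sub_one {m i : ℕ} (hm : 0 < m) (hi : i ≤ 2 * m) (h : 2 ^ i ≡ 1 [MOD 2 ^ m + 1]) :
    i = 0 ∨ i = 2 * m := by
  have hd : 2 ^ m + 1 ∣ 2 ^ i - 1 := (Nat.modEq_iff_dvd' Nat.one_le_two_pow).1 h.symm
  rcases Nat.lt_or_ge m i with hmi | hmi
  · right
    have hd2 : 2 ^ m + 1 ∣ 2 ^ (i - m) + 1 := by
      have e : 2 ^ (i - m) * (2 ^ m + 1) = (2 ^ i - 1) + (2 ^ (i - m) + 1) := by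
        rw [mul_add, ← pow_add, Nat.sub_add_cancel hmi.le, mul_one]
        have := Nat.one_le_two_pow (n := i)
        omega
      exact (Nat.dvd_add_right hd).1 (e ▸ dvd_mul_left _ _)
    have hle : 2 ^ (i - m) ≤ 2 ^ m := Nat.pow_le_pow_right two_pos (by omega)
    have hge := Nat.le_of_dvd (Nat.succ_pos _) hd2
    have : 2 ^ (i - m) = 2 ^ m := by omega
    have := Nat.pow_right_injective le_rfl this
    omega
  · left
    have := Nat.one_le_two_pow (n := m)
    have hlt : 2 ^ i - 1 < 2 ^ m + 1 := by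
      have := Nat.pow_le_pow_right two_pos hmi
      omega
    have h0 := Nat.eq_zero_of_dvd_of_lt hd hlt
    by_contra hne
    have : 2 ^ 1 ≤ 2 ^ i := Nat.pow_le_pow_right two_pos (Nat.pos_of_ne_zero hne)
    omega

lemma add_pow_two_pow {E : Type*} [Ring E] (h2 : (1 : E) + 1 = 0) {a b : E} (h : Commute a b)
    (n : ℕ) : (a + b) ^ (2 ^ n) = a ^ (2 ^ n) + b ^ (2 ^ n) := by
  induction n with
  | zero => simp
  | succ n ih =>
    rw [pow_succ, pow_mul, ih, pow_mul, pow_mul, (h.pow_pow _ _).add_sq,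
      show (2 : E) = 0 by rw [← one_add_one_eq_two]; exact h2]
    simp

theorem eq_self_of_commute {V X : Type*} [CommGroup V] [Finite V] [CommGroup X]
    (hexp : ∀ v : V, v * v = 1) (β : V →* V →* X)
    (q m : ℕ) [Fact q.Prime] (hq : q = 2 ^ m + 1) (hm : 0 < m)
    (R : Subgroup V) (hR : Nat.card ↥R = 2 ^ (2 * m))
    (τ : MulAut V) (hτ : τ ^ q = 1) (hτR : ∀ x ∈ R, τ x ∈ R) (hfix : ∀ x ∈ R, τ x = x → x = 1)
    (hnd : ∀ y ∈ R, (∀ x ∈ R, β x y = 1) → y = 1)
    (hτβ : ∀ v w, β (τ v) (τ w) = β v w)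
    (w : MulAut V) (hwR : ∀ x ∈ R, w x ∈ R) (hwβ : ∀ v v', β (w v) (w v') = β v v')
    (hwτ : w * τ = τ * w) (N : ℕ) (hwN : w ^ N = 1) (hNq : N.Coprime q) :
    ∀ x ∈ R, w x = x := by
  classical
  haveI : Fintype V := Fintype.ofFinite V
  -- irreducibility
  have hirr : ∀ Y : Subgroup V, Y ≤ R → (∀ x ∈ Y, τ x ∈ Y) → Y = ⊥ ∨ Y = R := by
    intro Y hY hτY
    let σ : ↥Y → ↥Y := fun x => ⟨τ x, hτY x x.2⟩
    have hσ : Function.Bijective σ := Finite.injective_iff_bijective.1 fun a b h =>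
      Subtype.ext (τ.injective (congrArg Subtype.val h))
    let e : Equiv.Perm ↥Y := Equiv.ofBijective σ hσ
    have hpow : ∀ (n : ℕ) (x : ↥Y), ((e ^ n) x : V) = (τ ^ n) x := by
      intro n
      induction n with
      | zero => simp
      | succ n ih =>
        intro x
        rw [pow_succ', pow_succ', Equiv.Perm.mul_apply, MulAut.mul_apply, ← ih]
        rfl
    have he : e ^ q ^ 1 = 1 := Equiv.ext fun x => Subtype.ext (by rw [pow_one, hpow, hτ]; rfl)
    have hmod := Equiv.Perm.card_compl_support_modEq he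
    have hsupp : e.supportᶜ = {(1 : ↥Y)} := by
      ext x
      simp only [Finset.mem_compl, Equiv.Perm.mem_support, not_not, Finset.mem_singleton]
      constructor
      · intro hx
        exact Subtype.ext (hfix x (hY x.2) (congrArg Subtype.val hx))
      · rintro rfl; exact Subtype.ext (map_one τ)
    rw [hsupp, Finset.card_singleton, ← Nat.card_eq_fintype_card] at hmod
    obtain ⟨i, hi, hYi⟩ := (Nat.dvd_prime_pow Nat.prime_two).1
      (hR ▸ Subgroup.card_dvd_of_le hY : Nat.card ↥Y ∣ 2 ^ (2 * m))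
    rw [hYi, hq] at hmod
    rcases dvd_two_pow_sub_one hm hi hmod.symm with h | h
    · left; exact Subgroup.eq_bot_of_card_eq _ (by rw [hYi, h, pow_zero])
    · right; exact Subgroup.eq_of_le_of_card_ge hY (by rw [hR, hYi, h])
  -- endomorphisms of `R`
  let restr : (g : MulAut V) → (∀ x ∈ R, g x ∈ R) → AddMonoid.End (Additive ↥R) := fun g hg =>
    MonoidHom.toAdditive
      { toFun := fun x : ↥R => (⟨g x, hg x x.2⟩ : ↥R)
        map_one' := Subtype.ext (map_one g)
        map_mul' := fun a b => Subtype.ext (map_mul g (a : V) (b : V)) }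
  let ev : AddMonoid.End (Additive ↥R) → ↥R → ↥R := fun P x =>
    Additive.toMul (P (Additive.ofMul x))
  have hev_add : ∀ P Q x, ev (P + Q) x = ev P x * ev Q x := fun P Q x => rfl
  have hev_mul : ∀ P Q x, ev (P * Q) x = ev P (ev Q x) := fun P Q x => rfl
  have hev1 : ∀ x, ev 1 x = x := fun x => rfl
  have hev0 : ∀ x, ev 0 x = 1 := fun x => rfl
  have hext : ∀ P Q, (∀ x, ev P x = ev Q x) → P = Q := fun P Q h =>
    AddMonoidHom.ext fun x => Additive.toMul.injective (h (Additive.toMul x))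
  have h2 : (1 : AddMonoid.End (Additive ↥R)) + 1 = 0 := hext _ _ fun x => by
    rw [hev_add, hev1, hev0]; exact Subtype.ext (hexp x)
  have hneg : ∀ P : AddMonoid.End (Additive ↥R), -P = P := fun P => by
    have : P + P = 0 := by rw [← mul_one P, ← mul_add, h2, mul_zero]
    exact (eq_neg_of_add_eq_zero_left this).symm
  have hev_map_one : ∀ P, ev P 1 = 1 := fun P => congrArg Additive.toMul (map_zero P)
  have hev_map_mul : ∀ P a b, ev P (a * b) = ev P a * ev P b := fun P a b =>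
    congrArg Additive.toMul (map_add P (Additive.ofMul a) (Additive.ofMul b))
  let S := restr τ hτR
  let c := restr w hwR
  have hpowS : ∀ (n : ℕ) (x : ↥R), (ev (S ^ n) x : V) = (τ ^ n) x := by
    intro n
    induction n with
    | zero => intro x; rw [pow_zero, hev1, pow_zero]; rfl
    | succ n ih =>
      intro x
      rw [pow_succ', pow_succ', hev_mul, MulAut.mul_apply, ← ih]
      rfl
  let Sr : Subring (AddMonoid.End (Additive ↥R)) := Subring.closure {S}
  have hcomm : ∀ P ∈ Sr, ∀ Q ∈ Sr, Commute P Q := by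
    intro P hP Q hQ
    have h1 : Sr ≤ Subring.centralizer {S} := Subring.closure_le.2 (by
      intro a ha
      rw [Set.mem_singleton_iff] at ha
      subst ha
      show S ∈ Subring.centralizer ({S} : Set (AddMonoid.End (Additive ↥R)))
      rw [Subring.mem_centralizer_iff]
      intro g hg
      rw [Set.mem_singleton_iff] at hg
      rw [hg])
    have h3 : Sr ≤ Subring.centralizer (Sr : Set (AddMonoid.End (Additive ↥R))) :=
      Subring.closure_le.2 (by
        rintro _ rfl
        rw [SetLike.mem_coe, Subring.mem_centralizer_iff]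
        intro g hg
        exact (Subring.mem_centralizer_iff.1 (h1 hg) _ rfl).symm)
    exact (Subring.mem_centralizer_iff.1 (h3 hQ) P hP)
  have hSc : ∀ P ∈ Sr, Commute P S := fun P hP => hcomm P hP S (Subring.subset_closure rfl)
  -- `c` is a polynomial in `S`
  rcases eq_or_ne R ⊥ with hbot | hbot
  · intro x hx; rw [hbot, Subgroup.mem_bot] at hx; rw [hx, map_one]
  obtain ⟨x0, hx0, hx01⟩ := (Subgroup.bot_or_exists_ne_one R).resolve_left hbot
  let Y : Subgroup V :=
    { carrier := {v | ∃ P ∈ Sr, (ev P ⟨x0, hx0⟩ : V) = v}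
      one_mem' := ⟨0, Sr.zero_mem, by rw [hev0]; rfl⟩
      mul_mem' := by
        rintro a b ⟨P, hP, rfl⟩ ⟨Q, hQ, rfl⟩
        exact ⟨P + Q, Sr.add_mem hP hQ, by rw [hev_add]; rfl⟩
      inv_mem' := by
        rintro a ⟨P, hP, rfl⟩
        exact ⟨P, hP, (inv_eq_of_mul_eq_one_left (hexp _)).symm⟩ }
  have hYR : Y = R := by
    refine (hirr Y (by rintro v ⟨P, hP, rfl⟩; exact (ev P _).2) ?_).resolve_left ?_
    · rintro v ⟨P, hP, rfl⟩
      exact ⟨S * P, Sr.mul_mem (Subring.subset_closure rfl) hP, rfl⟩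
    · intro h
      apply hx01
      have : x0 ∈ Y := ⟨1, Sr.one_mem, rfl⟩
      rwa [h, Subgroup.mem_bot] at this
  obtain ⟨P, hP, hPx⟩ : w x0 ∈ Y := hYR ▸ hwR x0 hx0
  have hcS : Commute c S := hext _ _ fun x => Subtype.ext (by
    show w (τ (x : V)) = τ (w (x : V))
    rw [← MulAut.mul_apply, hwτ, MulAut.mul_apply])
  have hcP : c = P := by
    let Ker : Subgroup V :=
      { carrier := {v | ∃ hv : v ∈ R, ev c ⟨v, hv⟩ = ev P ⟨v, hv⟩}
        one_mem' := ⟨R.one_mem, by
          show ev c (1 : ↥R) = ev P (1 : ↥R)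
          rw [hev_map_one, hev_map_one]⟩
        mul_mem' := by
          rintro a b ⟨ha, ha'⟩ ⟨hb, hb'⟩
          refine ⟨R.mul_mem ha hb, ?_⟩
          show ev c ((⟨a, ha⟩ : ↥R) * ⟨b, hb⟩) = ev P ((⟨a, ha⟩ : ↥R) * ⟨b, hb⟩)
          rw [hev_map_mul, hev_map_mul, ha', hb']
        inv_mem' := by
          rintro a ⟨ha, ha'⟩
          have e : (⟨a⁻¹, R.inv_mem ha⟩ : ↥R) = ⟨a, ha⟩ :=
            Subtype.ext (inv_eq_of_mul_eq_one_left (hexp a))
          exact ⟨R.inv_mem ha, by rw [e]; exact ha'⟩ }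
    have hK : Ker = R := by
      refine (hirr Ker (fun v hv => hv.1) ?_).resolve_left ?_
      · rintro v ⟨hv, hv'⟩
        refine ⟨hτR v hv, ?_⟩
        show ev (c * S) ⟨v, hv⟩ = ev (P * S) ⟨v, hv⟩
        rw [hcS.eq, (hSc P hP).eq, hev_mul, hev_mul, hv']
      · intro h
        apply hx01
        have : x0 ∈ Ker := ⟨hx0, Subtype.ext hPx.symm⟩
        rwa [h, Subgroup.mem_bot] at this
    exact hext _ _ fun x => by
      obtain ⟨hv, hv'⟩ : (x : V) ∈ Ker := hK.symm ▸ x.2
      exact hv'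
  -- adjoints
  have hSq : S ^ (2 ^ m + 1) = 1 := hext _ _ fun x => Subtype.ext (by
    rw [hpowS, ← hq, hτ, hev1]; rfl)
  have hadj : ∀ Q ∈ Sr, ∀ x y : ↥R,
      β (ev Q x : V) (y : V) = β (x : V) (ev (Q ^ (2 ^ m)) y : V) := by
    intro Q hQ
    induction hQ using Subring.closure_induction with
    | mem Q hQ =>
      rw [Set.mem_singleton_iff] at hQ
      subst hQ
      intro x y
      have e : (y : V) = τ (ev (S ^ (2 ^ m)) y : V) := by
        show (y : V) = (ev (S * S ^ (2 ^ m)) y : V)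
        rw [← pow_succ', hSq, hev1]
      conv_lhs => rw [e]
      exact hτβ _ _
    | zero =>
      intro x y
      rw [zero_pow (pow_ne_zero _ two_ne_zero), hev0, hev0]
      simp
    | one => intro x y; rw [one_pow, hev1, hev1]
    | add a b ha hb iha ihb =>
      intro x y
      rw [add_pow_two_pow h2 (hcomm a ha b hb), hev_add, hev_add, Subgroup.coe_mul, map_mul,
        MonoidHom.mul_apply, iha, ihb, ← map_mul, Subgroup.coe_mul]
    | neg a ha iha => intro x y; simp only [hneg]; exact iha x y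
    | mul a b ha hb iha ihb =>
      intro x y
      rw [hev_mul, iha, ihb, ← hev_mul, (hcomm a ha b hb).mul_pow,
        ((hcomm a ha b hb).pow_pow _ _).eq]
  have hcq : c ^ q = 1 := by
    apply hext
    intro y
    have key : ∀ x : ↥R, β (x : V) (ev (c ^ q) y : V) = β (x : V) (y : V) := by
      intro x
      rw [hq, pow_succ, hev_mul, hcP, ← hadj P hP, ← hcP]
      exact hwβ _ _
    rw [hev1]
    apply mul_inv_eq_one.1
    exact Subtype.ext (hnd _ (ev (c ^ q) y * y⁻¹).2 fun x hx => by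
      rw [Subgroup.coe_mul, map_mul, Subgroup.coe_inv, map_inv, key ⟨x, hx⟩, mul_inv_cancel])
  have hpowc : ∀ (n : ℕ) (x : ↥R), (ev (c ^ n) x : V) = (w ^ n) x := by
    intro n
    induction n with
    | zero => intro x; rw [pow_zero, hev1, pow_zero]; rfl
    | succ n ih =>
      intro x
      rw [pow_succ', pow_succ', hev_mul, MulAut.mul_apply, ← ih]
      rfl
  have hcN : c ^ N = 1 := hext _ _ fun x => Subtype.ext (by rw [hpowc, hwN, hev1]; rfl)
  have hc1 : c ^ Nat.gcd N q = 1 := pow_gcd_eq_one.2 ⟨hcN, hcq⟩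
  rw [hNq.gcd_eq_one, pow_one] at hc1
  intro x hx
  have h := congrArg (fun Q => ((ev Q ⟨x, hx⟩ : ↥R) : V)) hc1
  exact h

end CfsgLib.PQFPF
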