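import Cfsg.Agent.Lib.PQFPF.Idem

/-!
# Abelian groups of odd order normalized by an element with small commutator space

Let `τ` be an element of prime order `q` acting on an elementary abelian `2`-group `V` with a
non-degenerate invariant pairing, such that `|[V,τ]| < 2 ^ (2 (q - 1))`. Then `τ` centralizes every
abelian group of odd order of isometries of `V` that it normalizes.
-/

namespace CfsgLib.PQFPF

open Module (finrank)
open scoped Matrix

/-- In matrix form over an algebraically closed field. -/
theorem commute_matrix {ι k : Type*} [Fintype ι] [DecidableEq ι] [Field k] [IsAlgClosed k]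
    {Z : Type*} [CommGroup Z] [Fintype Z] (hZ : (Fintype.card Z : k) ≠ 0) (hodd : Odd (Fintype.card Z))
    (q : ℕ) [Fact q.Prime] (hq2 : q ≠ 2)
    (ρ : Z →* Matrix ι ι k) (J : Matrix ι ι k) (hJ : ∀ X, J * X = 0 → X = 0)
    (hform : ∀ z, J * ρ z = (ρ z⁻¹)ᵀ * J)
    (T : (Matrix ι ι k)ˣ) (hT : T ^ q = 1) (f : MulAut Z)
    (hTρ : ∀ z, (T : Matrix ι ι k) * ρ z = ρ (f z) * T)
    (hsmall : finrank k (LinearMap.range (Matrix.mulVecLin ((T : Matrix ι ι k) - 1))) < 2 * (q - 1))
    (z : Z) : (T : Matrix ι ι k) * ρ z = ρ z * T := by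
  classical
  have hq : q.Prime := Fact.out
  haveI := finite_dual (Z := Z) (k := k) hZ
  letI : Fintype (Z →* kˣ) := Fintype.ofFinite _
  let e : (Z →* kˣ) → Matrix ι ι k := fun μ => idem ρ μ
  let act : (Z →* kˣ) → (Z →* kˣ) := fun μ => μ.comp f.symm.toMonoidHom
  have hTe : ∀ μ, (T : Matrix ι ι k) * e μ = e (act μ) * T := fun μ => semiconj_idem ρ f hTρ μ
  -- every occurring weight is fixed
  suffices hfix : ∀ μ, e μ ≠ 0 → act μ = μ by
    have hc : ∀ μ, (T : Matrix ι ι k) * e μ = e μ * T := by
      intro μ
      by_cases h : e μ = 0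
      · rw [h, mul_zero, zero_mul]
      · rw [hTe, hfix μ h]
    have hz : ρ z = ∑ μ, ((μ z : kˣ) : k) • e μ := by
      rw [← mul_one (ρ z), ← sum_idem (k := k) ρ hZ, Finset.mul_sum]
      exact Finset.sum_congr rfl fun μ _ => mul_idem ρ z μ
    rw [hz, Finset.mul_sum, Finset.sum_mul]
    exact Finset.sum_congr rfl fun μ _ => by rw [mul_smul_comm, smul_mul_assoc, hc]
  intro μ hμ
  by_contra hne
  -- the inverse weight occurs too
  have hμ' : e μ⁻¹ ≠ 0 := by
    intro h0
    apply hμ
    apply hJ
    have : J * e μ = (e μ⁻¹)ᵀ * J := by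
      simp only [e, idem, Matrix.transpose_smul, Matrix.transpose_sum, mul_smul_comm,
        smul_mul_assoc, Finset.mul_sum, Finset.sum_mul, hform]
      congr 1
      refine Fintype.sum_equiv (Equiv.inv Z) _ _ (fun w => ?_)
      simp
    rw [this, h0, Matrix.transpose_zero, zero_mul]
  -- the two orbits of weights
  let μs : Bool → ℕ → (Z →* kˣ) := fun b i => act^[i] (bif b then μ else μ⁻¹)
  have hactinv : ∀ ν : Z →* kˣ, act ν⁻¹ = (act ν)⁻¹ := fun ν => rfl
  have hiterinv : ∀ (i : ℕ) (ν : Z →* kˣ), act^[i] ν⁻¹ = (act^[i] ν)⁻¹ := by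
    intro i
    induction i with
    | zero => simp
    | succ i ih => intro ν; rw [Function.iterate_succ_apply', ih, hactinv,
        ← Function.iterate_succ_apply' act]
  have hTi : ∀ (i : ℕ) ν, ((T : Matrix ι ι k) ^ i) * e ν = e (act^[i] ν) * (T : Matrix ι ι k) ^ i := by
    intro i
    induction i with
    | zero => simp
    | succ i ih =>
      intro ν
      rw [pow_succ', mul_assoc, ih, ← mul_assoc, hTe, mul_assoc, Function.iterate_succ_apply']
  have hTq : (T : Matrix ι ι k) ^ q = 1 := by
    rw [← Units.val_pow_eq_pow_val, hT, Units.val_one]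
  have hperq : ∀ ν : Z →* kˣ, e ν ≠ 0 → act^[q] ν = ν := by
    intro ν hν
    by_contra h
    have h1 := hTi q ν
    rw [hTq, one_mul, mul_one] at h1
    apply hν
    calc e ν = e ν * e ν := (idem_mul_self ρ hZ ν).symm
      _ = e (act^[q] ν) * e ν := by rw [← h1]
      _ = 0 := idem_mul_of_ne ρ hZ h
  have hdist : ∀ (b b' : Bool) (i j : ℕ), i < q → j < q → μs b i = μs b' j → b = b' ∧ i = j := by
    have hper : act^[q] μ = μ := hperq μ hμ
    have hP : ∀ d : ℕ, 0 < d → d < q → act^[d] μ ≠ μ := by
      intro d hd hdq h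
      have hp : Function.IsPeriodicPt act (Nat.gcd d q) μ :=
        Function.IsPeriodicPt.gcd (f := act) h hper
      rw [Nat.Coprime.gcd_eq_one (Nat.coprime_comm.1 ((hq.coprime_iff_not_dvd).2
        (fun hd' => absurd (Nat.le_of_dvd hd hd') (not_le.2 hdq))))] at hp
      exact hne hp
    have hshift : ∀ i, i < q → ∀ ν, act^[i] μ = ν → act^[q - i] ν = μ := by
      intro i hi ν h
      rw [← h, ← Function.iterate_add_apply, Nat.sub_add_cancel hi.le, hper]
    have hsame : ∀ i j, i < q → j < q → act^[i] μ = act^[j] μ → i = j := by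
      have key : ∀ i j, i < j → j < q → act^[i] μ ≠ act^[j] μ := by
        intro i j hij hj h
        have h2 := hshift j hj _ h.symm
        rw [← Function.iterate_add_apply] at h2
        exact hP (q - j + i) (by omega) (by omega) h2
      intro i j hi hj h
      rcases lt_trichotomy i j with h' | h' | h'
      · exact absurd h (key i j h' hj)
      · exact h'
      · exact absurd h.symm (key j i h' hi)
    have hinv : ∀ i j, i < q → j < q → act^[i] μ ≠ (act^[j] μ)⁻¹ := by
      intro i j hi hj h
      rw [← hiterinv] at h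
      have h2 := congrArg act^[q - j] h
      rw [← Function.iterate_add_apply, ← Function.iterate_add_apply, Nat.sub_add_cancel hj.le,
        hperq _ hμ'] at h2
      set d := q - j + i with hd
      have h3 : act^[d + d] μ = μ := by
        rw [Function.iterate_add_apply, h2, hiterinv, h2]; exact inv_inv μ
      have h4 : act^[d] μ = μ := by
        have hmod : ∀ m, act^[m] μ = act^[m % q] μ := fun m => by
          conv_lhs => rw [← Nat.mod_add_div m q]
          rw [Function.iterate_add_apply]
          congr 1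
          exact (Function.IsPeriodicPt.mul_const hper _)
        rw [hmod] at h3 ⊢
        rcases Nat.eq_zero_or_pos ((d + d) % q) with h0 | h0
        · have hdvd : q ∣ 2 * d := by
            rw [two_mul]; exact Nat.dvd_of_mod_eq_zero h0
          rcases (Nat.Prime.dvd_mul hq).1 hdvd with h' | h'
          · exact absurd ((Nat.prime_dvd_prime_iff_eq hq Nat.prime_two).1 h') hq2
          · rw [Nat.dvd_iff_mod_eq_zero.1 h']; rfl
        · exact absurd h3 (hP _ h0 (Nat.mod_lt _ hq.pos))
      rw [h2] at h4
      apply hne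
      have hμ1 : μ = 1 := by
        ext w
        have hw2 : μ w ^ 2 = 1 := by
          rw [pow_two]; nth_rewrite 1 [← h4]; simp
        have hwn : μ w ^ Fintype.card Z = 1 := by rw [← map_pow, pow_card_eq_one, map_one]
        have := pow_gcd_eq_one.2 ⟨hw2, hwn⟩
        rw [Nat.Coprime.gcd_eq_one (Nat.coprime_two_left.2 hodd), pow_one] at this
        simp [this]
      rw [hμ1]; rfl
    intro b b' i j hi hj h
    cases b <;> cases b' <;> simp only [μs, cond_true, cond_false, hiterinv] at h
    · exact ⟨rfl, hsame i j hi hj (inv_injective h)⟩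
    · exact absurd h.symm (hinv j i hj hi)
    · exact absurd h (hinv i j hi hj)
    · exact ⟨rfl, hsame i j hi hj h⟩
  have hne' : ∀ b i, e (μs b i) ≠ 0 := by
    intro b i h
    have hb : e (bif b then μ else μ⁻¹) ≠ 0 := by cases b <;> simpa
    apply hb
    have h' := hTi i (bif b then μ else μ⁻¹)
    rw [show act^[i] (bif b then μ else μ⁻¹) = μs b i from rfl, h, zero_mul] at h'
    exact (Units.mul_right_eq_zero (T ^ i)).1 (by rw [Units.val_pow_eq_pow_val]; exact h')
  -- vectors
  have hex : ∀ b, ∃ v : ι → k, e (μs b 0) *ᵥ v ≠ 0 := fun b => by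
    by_contra h
    push Not at h
    exact hne' b 0 (Matrix.toLin'.injective (LinearMap.ext fun v => by simpa using h v))
  choose v hv using hex
  let w : Bool → ℕ → (ι → k) := fun b i => ((T : Matrix ι ι k) ^ i * e (μs b 0)) *ᵥ v b
  have hwcomp : ∀ (b b' : Bool) (i : ℕ) (j : ℕ), i < q → j < q →
      e (μs b' j) *ᵥ w b i = if b = b' ∧ i = j then w b i else 0 := by
    intro b b' i j hi hj
    simp only [w, Matrix.mulVec_mulVec, ← mul_assoc]
    rw [mul_assoc (e (μs b' j)), hTi i, show act^[i] (μs b 0) = μs b i from rfl, ← mul_assoc]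
    split_ifs with h
    · obtain ⟨rfl, rfl⟩ := h
      rw [idem_mul_self ρ hZ]
    · rw [idem_mul_of_ne ρ hZ (fun h' => h (by
        obtain ⟨h1, h2⟩ := hdist b b' i j hi hj h'.symm
        exact ⟨h1, h2⟩)), zero_mul, Matrix.zero_mulVec]
  have hw0 : ∀ b i, w b i ≠ 0 := fun b i h => hv b (by
    have h' : ((T⁻¹ ^ i : (Matrix ι ι k)ˣ) : Matrix ι ι k) *ᵥ w b i = 0 := by
      rw [h, Matrix.mulVec_zero]
    simp only [w, Matrix.mulVec_mulVec, ← mul_assoc] at h'
    rw [← Units.val_pow_eq_pow_val, ← Units.val_mul, inv_pow, inv_mul_cancel, Units.val_one,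
      one_mul] at h'
    exact h')
  let u : Bool × Fin (q - 1) → (ι → k) := fun bi => w bi.1 (bi.2 + 1) - w bi.1 bi.2
  have hu : LinearIndependent k u := by
    rw [Fintype.linearIndependent_iff]
    intro c hc
    have hproj : ∀ b j, ∀ _hjq : j < q,
        (if hj0 : 0 < j then c (b, ⟨j - 1, by omega⟩) else 0) -
          (if hj1 : j < q - 1 then c (b, ⟨j, hj1⟩) else 0) = 0 := by
      intro b j hj
      have h := congrArg (fun x => e (μs b j) *ᵥ x) hc
      simp only [Matrix.mulVec_sum, Matrix.mulVec_smul, u, Matrix.mulVec_sub, Matrix.mulVec_zero,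
        Fintype.sum_prod_type] at h
      rw [Fintype.sum_eq_single b ?_] at h
      swap
      · intro b' hb'
        refine Finset.sum_eq_zero fun i _ => ?_
        rw [hwcomp b' b (i + 1) j (by omega) hj, hwcomp b' b i j (by omega) hj,
          if_neg (fun h => hb' h.1), if_neg (fun h => hb' h.1), sub_zero, smul_zero]
      simp only [hwcomp b b (_ + 1) j (Nat.add_lt_of_lt_sub (Fin.is_lt _)) hj,
        hwcomp b b _ j (Nat.lt_of_lt_of_le (Fin.is_lt _) (Nat.sub_le q 1)) hj, true_and,
        smul_sub, smul_ite, smul_zero, Finset.sum_sub_distrib] at h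
      have e1 : ∑ i : Fin (q - 1), (if (i : ℕ) + 1 = j then c (b, i) • w b ((i : ℕ) + 1) else 0) =
          (if hj0 : 0 < j then c (b, ⟨j - 1, by omega⟩) else 0) • w b j := by
        split_ifs with h0
        · rw [Fintype.sum_eq_single ⟨j - 1, by omega⟩]
          · rw [if_pos (show j - 1 + 1 = j by omega), show (j - 1 + 1) = j by omega]
          · intro i hi
            rw [if_neg]
            intro h'
            exact hi (Fin.ext (by simp; omega))
        · rw [zero_smul]
          exact Finset.sum_eq_zero fun i _ => if_neg (by omega)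
      have e2 : ∑ i : Fin (q - 1), (if (i : ℕ) = j then c (b, i) • w b (i : ℕ) else 0) =
          (if hj : j < q - 1 then c (b, ⟨j, hj⟩) else 0) • w b j := by
        split_ifs with h0
        · rw [Fintype.sum_eq_single ⟨j, h0⟩]
          · rw [if_pos rfl]
          · intro i hi
            rw [if_neg]
            intro h'
            exact hi (Fin.ext h')
        · rw [zero_smul]
          exact Finset.sum_eq_zero fun i _ => if_neg (by omega)
      rw [e1, e2, ← sub_smul] at h
      exact (smul_eq_zero.1 h).resolve_right (hw0 b j)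
    rintro ⟨b, i⟩
    obtain ⟨i, hi⟩ := i
    induction i with
    | zero =>
      have h := hproj b 0 hq.pos
      rwa [dif_neg (lt_irrefl 0), dif_pos hi, zero_sub, neg_eq_zero] at h
    | succ i ih =>
      have h := hproj b (i + 1) (by omega)
      rw [dif_pos (Nat.succ_pos i), dif_pos hi] at h
      simp only [Nat.add_sub_cancel] at h
      rw [ih (by omega), zero_sub, neg_eq_zero] at h
      exact h
  have hrange : ∀ bi, u bi ∈ LinearMap.range (Matrix.mulVecLin ((T : Matrix ι ι k) - 1)) := by
    rintro ⟨b, i⟩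
    refine ⟨w b i, ?_⟩
    simp only [u, w, Matrix.mulVecLin_apply, Matrix.sub_mulVec, Matrix.one_mulVec,
      Matrix.mulVec_mulVec, ← mul_assoc]
    rw [sub_mul, sub_mul, one_mul, ← pow_succ', Matrix.sub_mulVec]
  have hcard := (LinearIndependent.of_comp
    (LinearMap.range (Matrix.mulVecLin ((T : Matrix ι ι k) - 1))).subtype
    (v := fun bi => ⟨u bi, hrange bi⟩) hu).fintype_card_le_finrank
  rw [Fintype.card_prod, Fintype.card_bool, Fintype.card_fin] at hcard
  omega

/-- Group-theoretic form. -/
theorem commute_of_small_commutator {V X : Type*} [CommGroup V] [Finite V] [CommGroup X]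
    (hexp : ∀ v : V, v * v = 1) (β : V →* V →* X) (hβ : Function.Injective β)
    (hβsymm : ∀ v w, β v w = 1 → β w v = 1) (hX : ∀ x : X, x * x = 1 → ∀ y : X, y * y = 1 → x ≠ 1 → y ≠ 1 → x = y)
    (q : ℕ) [Fact q.Prime] (hq2 : q ≠ 2)
    (τ : MulAut V) (hτ : τ ^ q = 1) (hτβ : ∀ v w, β (τ v) (τ w) = β v w)
    (W : Subgroup (MulAut V)) (hWc : ∀ a ∈ W, ∀ b ∈ W, a * b = b * a) (hWodd : Odd (Nat.card W))
    (hWβ : ∀ a ∈ W, ∀ v w, β (a v) (a w) = β v w) (hτW : ∀ a ∈ W, τ * a * τ⁻¹ ∈ W)
    (m : ℕ) (hm : 2 * m < 2 * (q - 1)) (hrange : Nat.card {x : V // ∃ v, v⁻¹ * τ v = x} = 2 ^ (2 * m))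
    {a : MulAut V} (ha : a ∈ W) : τ * a = a * τ := by
  classical
  haveI : Fact (Nat.Prime 2) := ⟨Nat.prime_two⟩
  have hsmul : ∀ x : Additive V, 2 • x = 0 := fun x => by
    rw [two_nsmul]; exact hexp (Additive.toMul x)
  letI : Module (ZMod 2) (Additive V) := AddCommGroup.zmodModule (n := 2) hsmul
  let lin : MulAut V → Module.End (ZMod 2) (Additive V) := fun g =>
    (MonoidHom.toAdditive g.toMonoidHom).toZModLinearMap 2
  have hlin : ∀ g (x : Additive V), lin g x = Additive.ofMul (g (Additive.toMul x)) := fun g x => rfl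
  have hlinmul : ∀ g h, lin (g * h) = lin g * lin h := fun g h => LinearMap.ext fun x => rfl
  have hlin1 : lin 1 = 1 := LinearMap.ext fun x => rfl
  -- the form with values in the field with two elements
  let bval : X → ZMod 2 := fun x => if x = 1 then 0 else 1
  have hbval : ∀ x y : X, x * x = 1 → y * y = 1 → bval (x * y) = bval x + bval y := by
    intro x y hx hy
    by_cases h1 : x = 1
    · simp [bval, h1]
    by_cases h2 : y = 1
    · simp [bval, h2]
    have hxy : x = y := hX x hx y hy h1 h2
    subst hxy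
    simp only [bval, hx, if_true, if_neg h1]
    exact (CharTwo.add_self_eq_zero (1 : ZMod 2)).symm
  have hsq : ∀ v w, β v w * β v w = 1 := fun v w => by rw [← map_mul (β v), hexp, map_one]
  let B : LinearMap.BilinForm (ZMod 2) (Additive V) :=
    AddMonoidHom.toZModLinearMap 2
      (AddMonoidHom.mk' (fun x => (AddMonoidHom.mk' (fun y => bval (β (Additive.toMul x) (Additive.toMul y)))
        (fun y z => by rw [toMul_add, map_mul]; exact hbval _ _ (hsq _ _) (hsq _ _))).toZModLinearMap 2)
        (fun x z => by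
          apply LinearMap.ext
          intro y
          show bval (β (Additive.toMul (x + z)) (Additive.toMul y)) = _
          rw [toMul_add, map_mul, MonoidHom.mul_apply]
          exact hbval _ _ (hsq _ _) (hsq _ _)))
  have hB : ∀ x y, B x y = bval (β (Additive.toMul x) (Additive.toMul y)) := fun x y => rfl
  have hb0 : ∀ x, bval x = 0 → x = 1 := fun x h => by
    by_contra h'
    simp [bval, h'] at h
  have hBnd : B.Nondegenerate := by
    have hl : ∀ x : Additive V, (∀ y, B x y = 0) → x = 0 := by
      intro x hx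
      have : β (Additive.toMul x) = β 1 := by
        rw [map_one]
        exact MonoidHom.ext fun y => hb0 _ (hx (Additive.ofMul y))
      exact Additive.toMul.injective (hβ this)
    refine ⟨hl, fun y hy => hl y fun x => ?_⟩
    show bval (β (Additive.toMul y) (Additive.toMul x)) = 0
    rw [hβsymm _ _ (hb0 _ (hy x))]
    simp [bval]
  let bb := Module.finBasis (ZMod 2) (Additive V)
  let ι := Fin (Module.finrank (ZMod 2) (Additive V))
  let k := AlgebraicClosure (ZMod 2)
  let F : Module.End (ZMod 2) (Additive V) →+* Matrix ι ι k :=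
    ((algebraMap (ZMod 2) k).mapMatrix).comp (LinearMap.toMatrixAlgEquiv bb).toAlgHom.toRingHom
  have hFinj : Function.Injective F := fun u v h =>
    (LinearMap.toMatrixAlgEquiv bb).injective
      (Matrix.map_injective (algebraMap (ZMod 2) k).injective h)
  let J0 : Matrix ι ι (ZMod 2) := LinearMap.BilinForm.toMatrix bb B
  let J : Matrix ι ι k := (algebraMap (ZMod 2) k).mapMatrix J0
  have hJ : ∀ Y, J * Y = 0 → Y = 0 := by
    intro Y hY
    have hdet : IsUnit J.det := by
      rw [← RingHom.map_det]
      exact (IsUnit.mk0 _ ((LinearMap.BilinForm.nondegenerate_iff_det_ne_zero bb).1 hBnd)).map _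
    have hu : IsUnit J := (Matrix.isUnit_iff_isUnit_det J).2 hdet
    exact (hu.mul_right_eq_zero).1 hY
  letI : CommGroup ↥W :=
    { (inferInstance : Group ↥W) with
      mul_comm := fun x y => Subtype.ext (hWc x x.2 y y.2) }
  letI : Fintype ↥W := Fintype.ofFinite _
  let ρ : ↥W →* Matrix ι ι k :=
    { toFun := fun g => F (lin g)
      map_one' := by rw [OneMemClass.coe_one, hlin1, map_one]
      map_mul' := fun g h => by rw [Subgroup.coe_mul, hlinmul, map_mul] }
  have hform : ∀ g : ↥W, J * ρ g = (ρ g⁻¹)ᵀ * J := by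
    intro g
    have h0 : B.compRight (lin g) = B.compLeft (lin (g⁻¹ : ↥W)) := by
      apply LinearMap.BilinForm.ext
      intro x y
      show bval (β (Additive.toMul x) ((g : MulAut V) (Additive.toMul y))) =
        bval (β (((g⁻¹ : ↥W) : MulAut V) (Additive.toMul x)) (Additive.toMul y))
      congr 1
      rw [← hWβ g g.2 (((g⁻¹ : ↥W) : MulAut V) (Additive.toMul x)), ← MulAut.mul_apply,
        Subgroup.coe_inv, mul_inv_cancel, MulAut.one_apply]
    have h1 := congrArg (LinearMap.BilinForm.toMatrix bb) h0
    rw [LinearMap.BilinForm.toMatrix_compRight, LinearMap.BilinForm.toMatrix_compLeft] at h1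
    have h2 := congrArg (algebraMap (ZMod 2) k).mapMatrix h1
    rw [map_mul, map_mul] at h2
    calc J * ρ g = (algebraMap (ZMod 2) k).mapMatrix J0 *
          (algebraMap (ZMod 2) k).mapMatrix (LinearMap.toMatrix bb bb (lin g)) := rfl
      _ = _ := h2
      _ = (ρ g⁻¹)ᵀ * J := rfl
  let T : (Matrix ι ι k)ˣ :=
    { val := F (lin τ), inv := F (lin τ⁻¹)
      val_inv := by rw [← map_mul, ← hlinmul, mul_inv_cancel, hlin1, map_one]
      inv_val := by rw [← map_mul, ← hlinmul, inv_mul_cancel, hlin1, map_one] }
  have hTq : T ^ q = 1 := by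
    ext1
    rw [Units.val_pow_eq_pow_val, Units.val_one]
    show F (lin τ) ^ q = 1
    have hp : ∀ n : ℕ, lin (τ ^ n) = lin τ ^ n := by
      intro n
      induction n with
      | zero => simp [hlin1]
      | succ n ih => rw [pow_succ, pow_succ, hlinmul, ih]
    rw [← map_pow, ← hp, hτ, hlin1, map_one]
  let f : MulAut ↥W :=
    { toFun := fun g => ⟨τ * g * τ⁻¹, hτW g g.2⟩
      invFun := fun g => ⟨τ⁻¹ * g * τ, by
        have hpow : ∀ n : ℕ, ∀ x ∈ W, τ ^ n * x * (τ ^ n)⁻¹ ∈ W := by
          intro n
          induction n with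
          | zero => simp
          | succ n ih =>
            intro x hx
            have := hτW _ (ih x hx)
            rw [pow_succ', mul_inv_rev]
            simpa only [mul_assoc] using this
        have h := hpow (q - 1) g g.2
        rw [show τ ^ (q - 1) = τ⁻¹ from eq_inv_of_mul_eq_one_left (by
          rw [← pow_succ, Nat.sub_add_cancel (Fact.out : q.Prime).pos, hτ]), inv_inv] at h
        exact h⟩
      left_inv := fun g => Subtype.ext (by group)
      right_inv := fun g => Subtype.ext (by group)
      map_mul' := fun g h => Subtype.ext (by simp only [Subgroup.coe_mul]; group) }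
  have hTρ : ∀ g : ↥W, (T : Matrix ι ι k) * ρ g = ρ (f g) * T := by
    intro g
    show F (lin τ) * F (lin g) = F (lin (τ * g * τ⁻¹)) * F (lin τ)
    rw [← map_mul, ← map_mul, ← hlinmul, ← hlinmul, inv_mul_cancel_right]
  have hZ : (Fintype.card ↥W : k) ≠ 0 := by
    rw [← Nat.card_eq_fintype_card]
    intro h
    have := (CharP.cast_eq_zero_iff k 2 _).1 h
    rw [Nat.odd_iff] at hWodd
    omega
  have hfin : finrank k (LinearMap.range (Matrix.mulVecLin ((T : Matrix ι ι k) - 1))) ≤ 2 * m := by
    set N := lin τ - 1 with hN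
    have hTN : (T : Matrix ι ι k) - 1 = F N := by rw [hN, map_sub, map_one]
    have hr : finrank (ZMod 2) (LinearMap.range N) = 2 * m := by
      have hc : Nat.card ↥(LinearMap.range N) = 2 ^ (2 * m) := by
        rw [← hrange]
        refine Nat.card_congr (Equiv.subtypeEquiv Additive.toMul (fun x => ?_))
        have hneg : ∀ y : Additive V, lin τ y - y = Additive.ofMul ((Additive.toMul y)⁻¹ * τ (Additive.toMul y)) :=
          fun y => by
            apply Additive.toMul.injective
            rw [toMul_sub, hlin, toMul_ofMul, toMul_ofMul, div_eq_mul_inv, mul_comm]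
        constructor
        · rintro ⟨y, rfl⟩
          refine ⟨Additive.toMul y, ?_⟩
          show _ = Additive.toMul (lin τ y - y)
          rw [hneg, toMul_ofMul]
        · rintro ⟨v, hv⟩
          refine ⟨Additive.ofMul v, ?_⟩
          show lin τ (Additive.ofMul v) - Additive.ofMul v = x
          rw [hneg, toMul_ofMul, hv]; rfl
      rw [Module.natCard_eq_pow_finrank (K := ZMod 2), Nat.card_zmod] at hc
      exact Nat.pow_right_injective le_rfl hc
    let br := Module.finBasis (ZMod 2) ↥(LinearMap.range N)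
    have hfac : LinearMap.toMatrix bb bb N =
        LinearMap.toMatrix br bb (LinearMap.range N).subtype *
          LinearMap.toMatrix bb br N.rangeRestrict := by
      rw [← LinearMap.toMatrix_comp, LinearMap.subtype_comp_codRestrict]
    have hFN : F N = (LinearMap.toMatrix br bb (LinearMap.range N).subtype).map (algebraMap (ZMod 2) k) *
        (LinearMap.toMatrix bb br N.rangeRestrict).map (algebraMap (ZMod 2) k) := by
      rw [← Matrix.map_mul, ← hfac]; rfl
    rw [hTN, hFN, Matrix.mulVecLin_mul]
    refine le_trans (Submodule.finrank_mono (LinearMap.range_comp_le_range _ _)) ?_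
    refine (LinearMap.finrank_range_le _).trans ?_
    rw [Module.finrank_pi, Fintype.card_fin, hr]
  have hWodd' : Odd (Fintype.card ↥W) := by rw [← Nat.card_eq_fintype_card]; exact hWodd
  have main := commute_matrix hZ hWodd' q hq2 ρ J hJ hform T hTq f hTρ (by omega) ⟨a, ha⟩
  have h' : lin (τ * a) = lin (a * τ) := hFinj (by rw [hlinmul, hlinmul, map_mul, map_mul]; exact main)
  ext v
  exact congrArg Additive.toMul (LinearMap.congr_fun h' (Additive.ofMul v))

end CfsgLib.PQFPF
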