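import Mathlib

/-!
# Non-abelian groups of order `p q`
-/

namespace CfsgLib.PQFPF

/-- Generators of a non-abelian group of order `p q`, with `q ∣ p - 1`. -/
structure PQData (A : Type*) [Group A] where
  p : ℕ
  q : ℕ
  hp : p.Prime
  hq : q.Prime
  dvd : q ∣ p - 1
  f : A
  hf : f ^ p = 1
  hf1 : f ≠ 1
  card : Nat.card A = p * q
  kernelNormal : ∀ a : A, ∃ e : ℕ, a * f * a⁻¹ = f ^ e
  complement : ∀ b : A, b ^ q = 1 → b ≠ 1 → ∃ e : ℕ, b * f * b⁻¹ = f ^ e ∧ f ^ e ≠ f
  gen : ∀ b : A, b ^ q = 1 → b ≠ 1 → Subgroup.closure ({f, b} : Set A) = ⊤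

/-- The subgroups. -/
theorem PQData.subgroup_cases {A : Type*} [Group A] [Finite A] (D : PQData A) (H : Subgroup A) :
    H = ⊥ ∨ H = ⊤ ∨ H = Subgroup.zpowers D.f ∨
      ∃ b : A, b ^ D.q = 1 ∧ b ≠ 1 ∧ H = Subgroup.zpowers b := by
  haveI := Fact.mk D.hp
  haveI := Fact.mk D.hq
  have hdvd : Nat.card H ∣ D.p * D.q := D.card ▸ H.card_subgroup_dvd_card
  have hof : orderOf D.f = D.p := orderOf_eq_prime D.hf D.hf1
  have hne : D.p ≠ D.q := fun h => by
    have := D.dvd; rw [← h] at this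
    have := Nat.le_of_dvd (by have := D.hp.two_le; omega) this
    have := D.hp.two_le
    omega
  by_cases hqH : D.q ∣ Nat.card H
  · obtain ⟨b, hb⟩ := exists_prime_orderOf_dvd_card' (G := ↥H) D.q hqH
    have hb1 : (b : A) ^ D.q = 1 := by
      rw [← SubgroupClass.coe_pow, ← hb, pow_orderOf_eq_one]; rfl
    have hbne : (b : A) ≠ 1 := fun h => by
      rw [show b = 1 from Subtype.ext h, orderOf_one] at hb
      exact D.hq.one_lt.ne hb
    by_cases hpH : D.p ∣ Nat.card H
    · right; left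
      apply Subgroup.eq_top_of_card_eq
      rw [D.card]
      exact Nat.dvd_antisymm hdvd ((Nat.coprime_primes D.hp D.hq).2 hne |>.mul_dvd_of_dvd_of_dvd hpH hqH)
    · right; right; right
      refine ⟨b, hb1, hbne, (Subgroup.eq_of_le_of_card_ge (Subgroup.zpowers_le.2 b.2) ?_).symm⟩
      rw [Nat.card_zpowers, orderOf_eq_prime hb1 hbne]
      have h1 : Nat.card H ∣ D.q :=
        (((D.hp.coprime_iff_not_dvd).2 hpH).symm).dvd_of_dvd_mul_left hdvd
      exact Nat.le_of_dvd D.hq.pos h1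
  · have h1 : Nat.card H ∣ D.p :=
      (((D.hq.coprime_iff_not_dvd).2 hqH).symm).dvd_of_dvd_mul_right hdvd
    rcases (Nat.dvd_prime D.hp).1 h1 with h | h
    · left; exact Subgroup.eq_bot_of_card_eq _ h
    · right; right; left
      obtain ⟨x, hx⟩ := exists_prime_orderOf_dvd_card' (G := ↥H) D.p (h ▸ dvd_rfl)
      -- `x` is a power of `f`, since `⟨f⟩` is normal of order prime to the index
      let F : Subgroup A := Subgroup.zpowers D.f
      haveI : F.Normal := ⟨fun n hn a => by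
        obtain ⟨i, rfl⟩ := hn
        obtain ⟨e, he⟩ := D.kernelNormal a
        refine ⟨(e : ℤ) * i, ?_⟩
        show D.f ^ ((e : ℤ) * i) = a * D.f ^ i * a⁻¹
        rw [← conj_zpow, he, zpow_mul, zpow_natCast]⟩
      have hidx : F.index = D.q := by
        have hm := Subgroup.card_mul_index F
        rw [Nat.card_zpowers, hof, D.card] at hm
        exact Nat.eq_of_mul_eq_mul_left D.hp.pos hm
      have hxF : (x : A) ∈ F := by
        rw [← QuotientGroup.eq_one_iff]
        have e1 : ((x : A) : A ⧸ F) ^ D.p = 1 := by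
          rw [← QuotientGroup.mk_pow, ← SubgroupClass.coe_pow, ← hx, pow_orderOf_eq_one]; rfl
        have e2 : ((x : A) : A ⧸ F) ^ D.q = 1 := by
          rw [← hidx, Subgroup.index_eq_card]; exact pow_card_eq_one'
        have := pow_gcd_eq_one.2 ⟨e1, e2⟩
        rwa [Nat.Coprime.gcd_eq_one ((Nat.coprime_primes D.hp D.hq).2 hne), pow_one] at this
      have hxA : Subgroup.zpowers (x : A) = F :=
        Subgroup.eq_of_le_of_card_ge (Subgroup.zpowers_le.2 hxF) (by
          rw [Nat.card_zpowers, Nat.card_zpowers, hof, Subgroup.orderOf_coe, hx])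
      rw [← show F = Subgroup.zpowers D.f from rfl, ← hxA]
      refine (Subgroup.eq_of_le_of_card_ge (Subgroup.zpowers_le.2 x.2) ?_).symm
      rw [h, Nat.card_zpowers, Subgroup.orderOf_coe, hx]

theorem PQData.exists_complement {A : Type*} [Group A] [Finite A] (D : PQData A) :
    ∃ b : A, b ^ D.q = 1 ∧ b ≠ 1 := by
  haveI := Fact.mk D.hq
  obtain ⟨b, hb⟩ := exists_prime_orderOf_dvd_card' (G := A) D.q ⟨D.p, by rw [D.card, mul_comm]⟩
  refine ⟨b, hb ▸ pow_orderOf_eq_one b, fun h => ?_⟩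
  rw [h, orderOf_one] at hb
  exact D.hq.one_lt.ne hb

theorem exists_pqData {A : Type*} [Group A] [Finite A] {p q : ℕ} (hp : p.Prime) (hq : q.Prime)
    (hpq : p ≠ q) (hA : Nat.card A = p * q) (hAna : ¬ IsMulCommutative A) :
    ∃ D : PQData A, (D.p = p ∧ D.q = q) ∨ (D.p = q ∧ D.q = p) := by
  wlog hlt : q < p generalizing p q
  · obtain ⟨D, hD⟩ := this hq hp hpq.symm (by rw [hA, mul_comm]) (by omega)
    exact ⟨D, hD.symm⟩
  haveI := Fact.mk hp
  haveI := Fact.mk hq
  obtain ⟨f, hf⟩ := exists_prime_orderOf_dvd_card' (G := A) p ⟨q, hA⟩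
  let F : Subgroup A := Subgroup.zpowers f
  have hidx : F.index = q := by
    have hm := Subgroup.card_mul_index F
    rw [Nat.card_zpowers, hf, hA] at hm
    exact Nat.eq_of_mul_eq_mul_left hp.pos hm
  haveI hFn : F.Normal := by
    apply Subgroup.normal_of_index_eq_minFac_card
    rw [hidx, hA]
    refine le_antisymm ?_ (Nat.minFac_le_of_dvd hq.two_le (dvd_mul_left q p))
    have h1 : (p * q).minFac.Prime := Nat.minFac_prime (by
      have := hp.two_le; have := hq.two_le; nlinarith)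
    rcases (Nat.Prime.dvd_mul h1).1 (Nat.minFac_dvd (p * q)) with h | h
    · rw [(Nat.prime_dvd_prime_iff_eq h1 hp).1 h]; exact hlt.le
    · rw [(Nat.prime_dvd_prime_iff_eq h1 hq).1 h]
  have hfp : f ^ p = 1 := hf ▸ pow_orderOf_eq_one f
  have hf1 : f ≠ 1 := fun h => by rw [h, orderOf_one] at hf; exact hp.one_lt.ne hf
  have hkn : ∀ a : A, ∃ e : ℕ, a * f * a⁻¹ = f ^ e := fun a => by
    have h := hFn.conj_mem f (Subgroup.mem_zpowers f) a
    obtain ⟨e, he⟩ := (isOfFinOrder_of_finite f).mem_powers_iff_mem_zpowers.2 h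
    exact ⟨e, he.symm⟩
  have hgen : ∀ b : A, b ^ q = 1 → b ≠ 1 → Subgroup.closure ({f, b} : Set A) = ⊤ := by
    intro b hb hb1
    apply Subgroup.eq_top_of_card_eq
    refine Nat.dvd_antisymm (Subgroup.card_subgroup_dvd_card _) ?_
    rw [hA]
    refine ((Nat.coprime_primes hp hq).2 hpq).mul_dvd_of_dvd_of_dvd ?_ ?_
    · rw [← hf, ← Nat.card_zpowers]
      exact Subgroup.card_dvd_of_le (Subgroup.zpowers_le.2 (Subgroup.subset_closure (by simp)))
    · rw [← orderOf_eq_prime hb hb1, ← Nat.card_zpowers]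
      exact Subgroup.card_dvd_of_le (Subgroup.zpowers_le.2 (Subgroup.subset_closure (by simp)))
  have hcomp : ∀ b : A, b ^ q = 1 → b ≠ 1 → ∃ e : ℕ, b * f * b⁻¹ = f ^ e ∧ f ^ e ≠ f := by
    intro b hb hb1
    obtain ⟨e, he⟩ := hkn b
    refine ⟨e, he, fun h => hAna ?_⟩
    rw [h] at he
    have hc : b * f = f * b := by
      conv_rhs => arg 1; rw [← he]
      rw [inv_mul_cancel_right]
    have hcen : ∀ x : A, x ∈ Subgroup.centralizer ({f, b} : Set A) := by
      intro x
      have hle : (⊤ : Subgroup A) ≤ Subgroup.centralizer ({f, b} : Set A) := by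
        rw [← hgen b hb hb1, Subgroup.closure_le]
        intro y hy
        rw [SetLike.mem_coe, Subgroup.mem_centralizer_iff]
        intro g hg
        simp only [Set.mem_insert_iff, Set.mem_singleton_iff] at hy hg
        rcases hy with rfl | rfl <;> rcases hg with rfl | rfl <;>
          first | rfl | exact hc | exact hc.symm
      exact hle trivial
    refine ⟨⟨fun x y => ?_⟩⟩
    have hy : y ∈ Subgroup.closure ({f, b} : Set A) := by rw [hgen b hb hb1]; trivial
    have hle : Subgroup.closure ({f, b} : Set A) ≤ Subgroup.centralizer ({x} : Set A) := by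
      rw [Subgroup.closure_le]
      intro g hg
      rw [SetLike.mem_coe, Subgroup.mem_centralizer_singleton_iff]
      exact Subgroup.mem_centralizer_iff.1 (hcen x) g hg
    exact (Subgroup.mem_centralizer_singleton_iff.1 (hle hy)).symm
  obtain ⟨h, hh⟩ := exists_prime_orderOf_dvd_card' (G := A) q ⟨p, by rw [hA, mul_comm]⟩
  have hhq : h ^ q = 1 := hh ▸ pow_orderOf_eq_one h
  have hh1 : h ≠ 1 := fun e => by rw [e, orderOf_one] at hh; exact hq.one_lt.ne hh
  have hdvd : q ∣ p - 1 := by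
    obtain ⟨e, he, hne⟩ := hcomp h hhq hh1
    have hiter : ∀ n : ℕ, h ^ n * f * (h ^ n)⁻¹ = f ^ (e ^ n) := by
      intro n
      induction n with
      | zero => simp
      | succ n ih =>
        calc h ^ (n + 1) * f * (h ^ (n + 1))⁻¹ = h * (h ^ n * f * (h ^ n)⁻¹) * h⁻¹ := by
              rw [pow_succ']; group
          _ = _ := by rw [ih, ← conj_pow, he, ← pow_mul, pow_succ']
    have h1 : e ^ q ≡ 1 [MOD p] := by
      have := hiter q
      rw [hhq, inv_one, one_mul, mul_one] at this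
      rw [← hf]
      exact pow_eq_pow_iff_modEq.1 (by rw [pow_one]; exact this.symm)
    have h2 : ((e : ZMod p)) ^ q = 1 := by
      rw [← Nat.cast_pow, ← Nat.cast_one, ZMod.natCast_eq_natCast_iff]; exact h1
    let u : (ZMod p)ˣ := Units.ofPowEqOne (e : ZMod p) q h2 hq.ne_zero
    have hu : u ^ q = 1 := Units.pow_ofPowEqOne h2 hq.ne_zero
    have hu1 : u ≠ 1 := fun hu1 => hne (by
      have : (e : ZMod p) = ((1 : ℕ) : ZMod p) := by
        rw [Nat.cast_one]; exact congrArg Units.val hu1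
      rw [ZMod.natCast_eq_natCast_iff, ← hf] at this
      rw [pow_eq_pow_iff_modEq.2 this, pow_one])
    rw [← ZMod.card_units p, ← orderOf_eq_prime hu hu1]
    exact orderOf_dvd_card
  exact ⟨⟨p, q, hp, hq, hdvd, f, hfp, hf1, hA, hkn, hcomp, hgen⟩, Or.inl ⟨rfl, rfl⟩⟩

end CfsgLib.PQFPF
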