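import Cfsg.Agent.Lib.PQFPF.Idem
import Cfsg.Agent.Lib.PQFPF.Gen
import Cfsg.Agent.Lib.S3FPF.FixCoset

/-!
# Orbits of weights of an invariant abelian subgroup
-/

namespace CfsgLib.PQFPF

/-- An element of prime order with trace zero on a piece centralizes the abelian groups it
normalizes on that piece. -/
theorem fixed_of_trace {Z k R : Type*} [CommGroup Z] [Fintype Z] [Field k] [IsAlgClosed k] [Ring R]
    [Algebra k R] (hZ : (Fintype.card Z : k) ≠ 0) (ρ : Z →* R) (E : R)
    (hEρ : ∀ z, Commute E (ρ z)) (ℓ : ℕ) [Fact ℓ.Prime] (s : R) (hs : s ^ ℓ = 1)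
    (hEs : Commute E s) (htr : (∑ j ∈ Finset.range ℓ, s ^ j) * E = 0) (f : MulAut Z)
    (hsρ : ∀ z, s * ρ z = ρ (f z) * s) (z : Z) : ρ (f z) * E = ρ z * E := by
  classical
  have hℓ : ℓ.Prime := Fact.out
  haveI := finite_dual (Z := Z) (k := k) hZ
  letI : Fintype (Z →* kˣ) := Fintype.ofFinite _
  let e : (Z →* kˣ) → R := fun μ => idem ρ μ
  let act : (Z →* kˣ) → (Z →* kˣ) := fun μ => μ.comp f.symm.toMonoidHom
  have hse : ∀ μ, s * e μ = e (act μ) * s := fun μ => semiconj_idem ρ f hsρ μ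
  have hsi : ∀ (i : ℕ) μ, s ^ i * e μ = e (act^[i] μ) * s ^ i := by
    intro i
    induction i with
    | zero => simp
    | succ i ih =>
      intro μ
      rw [pow_succ', mul_assoc, ih, ← mul_assoc, hse, mul_assoc, Function.iterate_succ_apply']
  have hEe : ∀ μ, Commute E (e μ) := fun μ => commute_idem ρ hEρ μ
  have hvanish : ∀ μ, act μ ≠ μ → e μ * E = 0 := by
    intro μ hμ
    by_contra hne
    have he : e μ ≠ 0 := fun h => hne (by rw [h, zero_mul])
    have hq : act^[ℓ] μ = μ := by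
      by_contra h'
      have h1 := hsi ℓ μ
      rw [hs, one_mul, mul_one] at h1
      exact he (by
        calc e μ = e μ * e μ := (idem_mul_self ρ hZ μ).symm
          _ = e (act^[ℓ] μ) * e μ := by rw [← h1]
          _ = 0 := idem_mul_of_ne ρ hZ h')
    have h0 : e μ * ((∑ j ∈ Finset.range ℓ, s ^ j) * E) * e μ = 0 := by rw [htr, mul_zero, zero_mul]
    rw [Finset.sum_mul, Finset.mul_sum, Finset.sum_mul, Finset.sum_eq_single 0] at h0
    · apply hne
      calc e μ * E = e μ * e μ * E := by rw [idem_mul_self ρ hZ]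
        _ = e μ * (s ^ 0 * E) * e μ := by
            rw [pow_zero, one_mul, mul_assoc (e μ) E (e μ), (hEe μ).eq, ← mul_assoc]
        _ = 0 := h0
    · intro j hj hj0
      have hdiff : μ ≠ act^[j] μ := by
        intro h
        have hp : Function.IsPeriodicPt act (Nat.gcd j ℓ) μ :=
          Function.IsPeriodicPt.gcd (f := act) h.symm hq
        rw [Nat.Coprime.gcd_eq_one (Nat.coprime_comm.1 ((hℓ.coprime_iff_not_dvd).2
          (fun hd => absurd (Nat.le_of_dvd (Nat.pos_of_ne_zero hj0) hd)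
            (not_le.2 (Finset.mem_range.1 hj)))))] at hp
        exact hμ hp
      rw [mul_assoc, mul_assoc, (hEe μ).eq, ← mul_assoc (s ^ j), hsi, ← mul_assoc, ← mul_assoc,
        idem_mul_of_ne ρ hZ hdiff, zero_mul, zero_mul]
    · intro h; exact absurd (Finset.mem_range.2 hℓ.pos) h
  have hz : ∀ w, ρ w * E = ∑ μ, ((μ w : kˣ) : k) • (e μ * E) := by
    intro w
    conv_lhs => rw [← mul_one (ρ w), ← sum_idem (k := k) ρ hZ, Finset.mul_sum, Finset.sum_mul]
    exact Finset.sum_congr rfl fun μ _ => by rw [mul_idem ρ w μ, smul_mul_assoc]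
  rw [hz, hz]
  refine Finset.sum_congr rfl fun μ _ => ?_
  by_cases h : act μ = μ
  · congr 1
    conv_lhs => rw [← h]
    simp [act]
  · rw [hvanish μ h, smul_zero, smul_zero]

variable {K A k R : Type*} [Group K] [Finite K] [Group.IsSolvable K] [Group A] [Finite A]
  [Field k] [IsAlgClosed k] [Ring R] [Algebra k R]

/-- Some piece on which an abelian invariant subgroup `Z` acts non-trivially is stabilized by an
element of prime order with trace zero on it. -/
theorem exists_piece (D : PQData A) (φ : A →* MulAut K)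
    (hcop : (Nat.card A).Coprime (Nat.card K)) (hfpf : ∀ g, (∀ a, φ a g = g) → g = 1)
    (ρ : K →* R) (πA : A →* R) (hint : ∀ a x, πA a * ρ x = ρ (φ a x) * πA a)
    (hsum : ∀ [Fintype A], ∑ a, πA a = 0)
    (Z : Subgroup K) [hZn : Z.Normal] (hZinv : ∀ a, ∀ z ∈ Z, φ a z ∈ Z)
    (hZc : ∀ z ∈ Z, ∀ w ∈ Z, z * w = w * z) (hZk : (Nat.card ↥Z : k) ≠ 0)
    (hconj : ∀ x y : K, ∀ z ∈ Z, x * (y * z * y⁻¹) * x⁻¹ = y * (x * z * x⁻¹) * y⁻¹)
    (hnt : ∃ z ∈ Z, ρ z ≠ 1) :
    ∃ (b : A) (ℓ : ℕ) (E : R) (χ : ↥Z →* kˣ),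
      ((b = D.f ∧ ℓ = D.p) ∨ (b ^ D.q = 1 ∧ b ≠ 1 ∧ ℓ = D.q)) ∧
      E * E = E ∧ E ≠ 0 ∧ (∀ x, Commute E (ρ x)) ∧ Commute E (πA b) ∧
      (∑ j ∈ Finset.range ℓ, πA b ^ j) * E = 0 ∧
      χ ≠ 1 ∧ (¬ ∀ z ∈ Z, ρ z * E = E) ∧
      ((∀ z ∈ Z, ∀ x : K, x * z = z * x) → ∀ z : ↥Z, ρ (z : K) * E = ((χ z : kˣ) : k) • E) := by
  classical
  letI : CommGroup ↥Z :=
    { (inferInstance : Group ↥Z) with
      mul_comm := fun a b => Subtype.ext (hZc a a.2 b b.2) }
  letI : Fintype ↥Z := Fintype.ofFinite _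
  letI : Fintype A := Fintype.ofFinite _
  letI : Fintype K := Fintype.ofFinite _
  have hcard : (Fintype.card ↥Z : k) ≠ 0 := by rwa [← Nat.card_eq_fintype_card]
  haveI := finite_dual (k := k) hcard
  letI : Fintype (↥Z →* kˣ) := Fintype.ofFinite _
  let ρZ : ↥Z →* R := ρ.comp Z.subtype
  let e : (↥Z →* kˣ) → R := fun μ => idem ρZ μ
  obtain ⟨χ, hχ1, hχe⟩ : ∃ χ : ↥Z →* kˣ, χ ≠ 1 ∧ e χ ≠ 0 := by
    by_contra h
    push Not at h
    obtain ⟨z, hz, hz1⟩ := hnt
    exact hz1 (eq_one_of_idem ρZ hcard h ⟨z, hz⟩)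
  let act : MulAut ↥Z → (↥Z →* kˣ) → (↥Z →* kˣ) := fun g μ => μ.comp g.symm.toMonoidHom
  have hact_mul : ∀ g g' μ, act (g * g') μ = act g (act g' μ) := fun g g' μ => rfl
  have hact_one : ∀ μ, act 1 μ = μ := fun μ => rfl
  have hinj : ∀ g, Function.Injective (act g) := fun g μ ν h => by
    have := congrArg (act g⁻¹) h
    rwa [← hact_mul, ← hact_mul, inv_mul_cancel, hact_one, hact_one] at this
  have htrans : ∀ (r : R) (g : MulAut ↥Z), (∀ z, r * ρZ z = ρZ (g z) * r) →
      ∀ μ, r * e μ = e (act g μ) * r := fun r g hg μ => semiconj_idem ρZ g hg μ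
  let cj : K →* MulAut ↥Z := MulAut.conjNormal
  have hcjc : ∀ x y, cj x * cj y = cj y * cj x := by
    intro x y
    ext z
    simp only [MulAut.mul_apply, cj, MulAut.conjNormal_apply]
    exact hconj x y z z.2
  let φZ : A →* MulAut ↥Z :=
    { toFun := fun a =>
        { toFun := fun z => ⟨φ a z, hZinv a z z.2⟩
          invFun := fun z => ⟨φ a⁻¹ z, hZinv a⁻¹ z z.2⟩
          left_inv := fun z => Subtype.ext (by
            show φ a⁻¹ (φ a z) = z
            rw [← MulAut.mul_apply, ← map_mul, inv_mul_cancel, map_one, MulAut.one_apply])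
          right_inv := fun z => Subtype.ext (by
            show φ a (φ a⁻¹ z) = z
            rw [← MulAut.mul_apply, ← map_mul, mul_inv_cancel, map_one, MulAut.one_apply])
          map_mul' := fun x y => Subtype.ext (by simp) }
      map_one' := MulEquiv.ext fun z => Subtype.ext (by simp)
      map_mul' := fun a b => MulEquiv.ext fun z => Subtype.ext (by simp [MulAut.mul_apply]) }
  have hswap : ∀ a x, φZ a * cj x = cj (φ a x) * φZ a := by
    intro a x
    ext z
    simp [φZ, cj, MulAut.mul_apply]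
  let O : (↥Z →* kˣ) → Finset (↥Z →* kˣ) := fun μ => Finset.univ.image fun x => act (cj x) μ
  have hOmem : ∀ μ ν, ν ∈ O μ ↔ ∃ x, act (cj x) μ = ν := fun μ ν => by simp [O]
  have hOself : ∀ μ, μ ∈ O μ := fun μ => (hOmem _ _).2 ⟨1, by rw [map_one, hact_one]⟩
  have hOeq : ∀ μ ν, ν ∈ O μ → O ν = O μ := by
    intro μ ν hν
    obtain ⟨x, rfl⟩ := (hOmem _ _).1 hν
    ext ω
    rw [hOmem, hOmem]
    constructor
    · rintro ⟨y, rfl⟩; exact ⟨y * x, by rw [map_mul, hact_mul]⟩
    · rintro ⟨y, rfl⟩; exact ⟨y * x⁻¹, by rw [← hact_mul, ← map_mul, inv_mul_cancel_right]⟩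
  have hOdisj : ∀ μ ν, O μ ≠ O ν → O μ ∩ O ν = ∅ := by
    intro μ ν h
    by_contra h'
    obtain ⟨ω, hω⟩ := Finset.nonempty_iff_ne_empty.2 h'
    rw [Finset.mem_inter] at hω
    exact h ((hOeq μ ω hω.1).symm.trans (hOeq ν ω hω.2))
  have hOmap : ∀ a μ, (O μ).image (act (φZ a)) = O (act (φZ a) μ) := by
    intro a μ
    ext ω
    rw [Finset.mem_image, hOmem]
    constructor
    · rintro ⟨ν, hν, rfl⟩
      obtain ⟨x, rfl⟩ := (hOmem _ _).1 hν
      exact ⟨φ a x, by rw [← hact_mul, ← hact_mul, hswap]⟩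
    · rintro ⟨y, rfl⟩
      refine ⟨_, (hOmem _ _).2 ⟨φ a⁻¹ y, rfl⟩, ?_⟩
      rw [← hact_mul, ← hact_mul, hswap, ← MulAut.mul_apply, ← map_mul, mul_inv_cancel, map_one,
        MulAut.one_apply]
  let Es : Finset (↥Z →* kˣ) → R := fun s => ∑ μ ∈ s, e μ
  have hEmul : ∀ s t, Es s * Es t = Es (s ∩ t) := by
    intro s t
    simp only [Es, Finset.sum_mul_sum, e, idem_mul_idem ρZ hcard, Finset.sum_ite_eq]
    rw [← Finset.sum_filter, Finset.filter_mem_eq_inter]
  have hEtrans : ∀ (r : R) (g : MulAut ↥Z), (∀ z, r * ρZ z = ρZ (g z) * r) →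
      ∀ s, r * Es s = Es (s.image (act g)) * r := by
    intro r g hg s
    simp only [Es, Finset.mul_sum, Finset.sum_mul, Finset.sum_image ((hinj g).injOn), htrans r g hg]
  set E := Es (O χ) with hE
  have hEE : E * E = E := by rw [hE, hEmul, Finset.inter_self]
  have hEe : E * e χ = e χ := by
    have h1 : e χ = Es {χ} := by simp [Es]
    rw [h1, hE, hEmul, Finset.inter_singleton_of_mem (hOself χ)]
  have hE0 : E ≠ 0 := fun h => hχe (by rw [← hEe, h, zero_mul])
  have hρE : ∀ x, Commute E (ρ x) := by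
    intro x
    have h := hEtrans (ρ x) (cj x) (fun z => by simp [ρZ, cj, ← map_mul]) (O χ)
    have himg : (O χ).image (act (cj x)) = O χ := by
      ext ω
      rw [Finset.mem_image, hOmem]
      constructor
      · rintro ⟨ν, hν, rfl⟩
        obtain ⟨y, rfl⟩ := (hOmem _ _).1 hν
        exact ⟨x * y, by rw [map_mul, hact_mul]⟩
      · rintro ⟨y, rfl⟩
        exact ⟨_, (hOmem _ _).2 ⟨x⁻¹ * y, rfl⟩, by rw [← hact_mul, ← map_mul, mul_inv_cancel_left]⟩
    rw [himg] at h
    exact h.symm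
  have hπE : ∀ a s, πA a * Es s = Es (s.image (act (φZ a))) * πA a := fun a s =>
    hEtrans (πA a) (φZ a) (fun z => hint a z) s
  -- the stabilizer
  let St : Subgroup A :=
    { carrier := {a | (O χ).image (act (φZ a)) = O χ}
      one_mem' := by
        show (O χ).image (act (φZ 1)) = O χ
        rw [map_one]; exact Finset.image_id
      mul_mem' := fun {a b} (ha : (O χ).image (act (φZ a)) = O χ)
          (hb : (O χ).image (act (φZ b)) = O χ) => by
        show (O χ).image (act (φZ (a * b))) = O χ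
        rw [map_mul, show act (φZ a * φZ b) = act (φZ a) ∘ act (φZ b) from funext (hact_mul _ _),
          ← Finset.image_image, hb, ha]
      inv_mem' := fun {a} (ha : (O χ).image (act (φZ a)) = O χ) => by
        show (O χ).image (act (φZ a⁻¹)) = O χ
        conv_lhs => rw [← ha]
        rw [Finset.image_image, show act (φZ a⁻¹) ∘ act (φZ a) = id from funext fun μ => by
          show act (φZ a⁻¹) (act (φZ a) μ) = μ
          rw [← hact_mul, ← map_mul, inv_mul_cancel, map_one, hact_one]]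
        exact Finset.image_id }
  have hStmem : ∀ a, a ∈ St ↔ (O χ).image (act (φZ a)) = O χ := fun a => Iff.rfl
  have hStsum : ∑ a ∈ Finset.univ.filter (· ∈ St), πA a * E = 0 := by
    have h0 : ∑ a, E * πA a * E = 0 := by
      rw [← Finset.sum_mul, ← Finset.mul_sum, hsum, mul_zero, zero_mul]
    rw [← h0, Finset.sum_filter]
    refine Finset.sum_congr rfl (fun a _ => ?_)
    rw [mul_assoc E, hE, hπE, ← mul_assoc, hEmul]
    split_ifs with ha
    · rw [(hStmem a).1 ha, Finset.inter_self]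
    · rw [hStmem, hOmap] at ha
      rw [hOmap, hOdisj χ _ (Ne.symm ha)]
      simp [Es]
  have hnontriv : ¬ ∀ z ∈ Z, ρ z * E = E := by
    intro h
    obtain ⟨z, hz⟩ : ∃ z, χ z ≠ 1 := by
      by_contra h'; exact hχ1 (MonoidHom.ext fun z => not_not.1 fun hz => h' ⟨z, hz⟩)
    have h2 : ((χ z : kˣ) : k) • e χ = e χ := by
      rw [← mul_idem ρZ z χ]
      show ρ (z : K) * e χ = e χ
      conv_lhs => rw [← hEe, ← mul_assoc, h z z.2]
      exact hEe
    have h3 : (((χ z : kˣ) : k) - 1) • e χ = 0 := by rw [sub_smul, one_smul, h2, sub_self]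
    have hne : ((χ z : kˣ) : k) - 1 ≠ 0 := sub_ne_zero.2 fun h => hz (Units.ext h)
    exact hχe (by rw [← inv_smul_smul₀ hne (e χ), h3, smul_zero])
  have hscal : (∀ z ∈ Z, ∀ x : K, x * z = z * x) →
      ∀ z : ↥Z, ρ (z : K) * E = ((χ z : kˣ) : k) • E := by
    intro hcen z
    have hcj : ∀ x, cj x = 1 := fun x => by
      ext w
      simp [cj, hcen w w.2 x]
    have hO : O χ = {χ} := by
      ext ω
      rw [hOmem, Finset.mem_singleton]
      simp [hcj, hact_one, eq_comm]
    rw [hE, hO]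
    simp only [Es, Finset.sum_singleton]
    exact mul_idem ρZ z χ
  have hcyc : ∀ (b : A) (ℓ : ℕ), orderOf b = ℓ → St = Subgroup.zpowers b →
      Commute E (πA b) ∧ (∑ j ∈ Finset.range ℓ, πA b ^ j) * E = 0 := by
    intro b ℓ hb hStb
    have hbSt : b ∈ St := hStb ▸ Subgroup.mem_zpowers b
    refine ⟨?_, ?_⟩
    · have h := hπE b (O χ)
      rw [(hStmem b).1 hbSt] at h
      exact h.symm
    · have himg : Finset.univ.filter (· ∈ St) = (Finset.range ℓ).image (fun j => b ^ j) := by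
        ext a
        simp only [Finset.mem_filter, Finset.mem_univ, true_and, Finset.mem_image, Finset.mem_range,
          hStb]
        constructor
        · intro ha
          obtain ⟨i, hi⟩ := (isOfFinOrder_of_finite b).mem_powers_iff_mem_zpowers.2 ha
          exact ⟨i % ℓ, Nat.mod_lt _ (hb ▸ orderOf_pos b), by rw [← hb, pow_mod_orderOf]; exact hi⟩
        · rintro ⟨j, -, rfl⟩; exact Subgroup.npow_mem_zpowers b j
      rw [himg, Finset.sum_image (fun i hi j hj h =>
        pow_injOn_Iio_orderOf (by simpa [hb] using hi) (by simpa [hb] using hj) h)] at hStsum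
      rw [Finset.sum_mul]
      simpa only [map_pow] using hStsum
  rcases D.subgroup_cases St with h | h | h | ⟨b, hb, hb1, h⟩
  · exfalso
    have himg : Finset.univ.filter (· ∈ St) = {1} := by
      ext a; simp [h]
    rw [himg, Finset.sum_singleton, map_one, one_mul] at hStsum
    exact hE0 hStsum
  · exfalso
    -- the whole group stabilizes the orbit: some weight is fixed
    let W : Subgroup (MulAut ↥Z) := cj.range
    have hWcomm : ∀ x ∈ W, ∀ y ∈ W, x * y = y * x := by
      rintro _ ⟨x, rfl⟩ _ ⟨y, rfl⟩; exact hcjc x y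
    have hc : ∀ a, ∃ w ∈ W, act (φZ a) χ = act w χ := by
      intro a
      have ha : a ∈ St := h ▸ Subgroup.mem_top a
      have : act (φZ a) χ ∈ O χ := by
        rw [← (hStmem a).1 ha]; exact Finset.mem_image_of_mem _ (hOself χ)
      obtain ⟨x, hx⟩ := (hOmem _ _).1 this
      exact ⟨cj x, ⟨x, rfl⟩, hx.symm⟩
    choose c hcW hcχ using hc
    letI : CommGroup ↥W :=
      { (inferInstance : Group ↥W) with
        mul_comm := fun a b => Subtype.ext (hWcomm a a.2 b b.2) }
    have hWconj : ∀ a, ∀ w : ↥W, φZ a * w * (φZ a)⁻¹ ∈ W := by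
      rintro a ⟨_, ⟨x, rfl⟩⟩
      exact ⟨φ a x, by rw [hswap, mul_inv_cancel_right]⟩
    let cA : A → (↥W →* ↥W) := fun a =>
      { toFun := fun w => ⟨φZ a * w * (φZ a)⁻¹, hWconj a w⟩
        map_one' := Subtype.ext (by simp)
        map_mul' := fun v w => Subtype.ext (by simp only [Subgroup.coe_mul]; group) }
    let cW : A → ↥W := fun a => ⟨c a, hcW a⟩
    let Stab : Subgroup ↥W :=
      { carrier := {w | act (w : MulAut ↥Z) χ = χ}
        one_mem' := hact_one χ
        mul_mem' := fun {v w} (hv : act (v : MulAut ↥Z) χ = χ) (hw : act (w : MulAut ↥Z) χ = χ) => by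
          show act ((v : MulAut ↥Z) * (w : MulAut ↥Z)) χ = χ
          rw [hact_mul, hw, hv]
        inv_mem' := fun {v} (hv : act (v : MulAut ↥Z) χ = χ) => by
          show act (v : MulAut ↥Z)⁻¹ χ = χ
          conv_lhs => rw [← hv]
          rw [← hact_mul, inv_mul_cancel, hact_one] }
    have hcoc : ∀ a b, (cA a (cW b) * cW a)⁻¹ * cW (a * b) ∈ Stab := by
      intro a b
      show act ((((cA a (cW b) * cW a)⁻¹ * cW (a * b) : ↥W)) : MulAut ↥Z) χ = χ
      rw [Subgroup.coe_mul, Subgroup.coe_inv, hact_mul, ← hcχ (a * b)]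
      apply hinj ((cA a (cW b) * cW a : ↥W) : MulAut ↥Z)
      rw [← hact_mul, mul_inv_cancel, hact_one, Subgroup.coe_mul, hact_mul]
      show act (φZ (a * b)) χ = act (φZ a * c b * (φZ a)⁻¹) (act (c a) χ)
      rw [← hcχ a, ← hact_mul, inv_mul_cancel_right, hact_mul, ← hcχ b, map_mul, hact_mul]
    set P : ↥W := ∏ b, cW b with hP
    have hPa : ∀ a, (cA a P * cW a ^ Fintype.card A)⁻¹ * P ∈ Stab := by
      intro a
      have hprod : ∏ b, ((cA a (cW b) * cW a)⁻¹ * cW (a * b)) ∈ Stab :=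
        Subgroup.prod_mem _ fun b _ => hcoc a b
      rw [Finset.prod_mul_distrib, Finset.prod_inv_distrib, Finset.prod_mul_distrib,
        Finset.prod_const, Finset.card_univ, ← map_prod,
        Fintype.prod_equiv (Equiv.mulLeft a) (fun b => cW (a * b)) cW (fun b => rfl), ← hP] at hprod
      exact hprod
    obtain ⟨m, -, hm⟩ := Nat.exists_mul_mod_eq_of_coprime 1
      (hcop.coprime_dvd_right (Subgroup.card_range_dvd cj)) (Nat.card_pos (α := ↥W)).ne'
    set ω := act ((P ^ m : ↥W) : MulAut ↥Z) χ with hω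
    have hfix : ∀ a, act (φZ a) ω = ω := by
      intro a
      have hpow : cW a ^ (Fintype.card A * m) = cW a := by
        conv_rhs => rw [← pow_one (cW a)]
        rw [← Nat.card_eq_fintype_card (α := A)]
        exact pow_eq_pow_iff_modEq.2 ((show Nat.card A * m ≡ 1 [MOD Nat.card ↥W] from hm).of_dvd
          (orderOf_dvd_natCard _))
      have h1 := Stab.pow_mem (hPa a) m
      rw [mul_pow, inv_pow, mul_pow, ← pow_mul, hpow] at h1
      have h2 : act ((P ^ m : ↥W) : MulAut ↥Z) χ = act ((cA a (P ^ m) * cW a : ↥W) : MulAut ↥Z) χ := by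
        have h1' : act ((((cA a P) ^ m * cW a)⁻¹ * P ^ m : ↥W) : MulAut ↥Z) χ = χ := h1
        conv_rhs => rw [← h1', ← map_pow]
        rw [← hact_mul, ← Subgroup.coe_mul, mul_inv_cancel_left]
      rw [hω]
      conv_rhs => rw [h2, Subgroup.coe_mul, hact_mul]
      show _ = act (φZ a * ((P ^ m : ↥W) : MulAut ↥Z) * (φZ a)⁻¹) (act (c a) χ)
      rw [← hcχ a]
      simp only [← hact_mul, inv_mul_cancel_right]
    have hω1 : ω = 1 := by
      ext z
      have hnorm : (∏ a : A, φZ a z) = 1 := by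
        apply Subtype.ext
        apply hfpf
        intro a
        have hfixprod : φZ a (∏ b, φZ b z) = ∏ b, φZ b z := by
          rw [map_prod]
          exact Fintype.prod_equiv (Equiv.mulLeft a) _ _ fun b => by
            rw [← MulAut.mul_apply, ← map_mul]; rfl
        exact congrArg Subtype.val hfixprod
      have hωa : ∀ a, ω (φZ a z) = ω z := fun a => by
        conv_lhs => rw [← hfix a]
        simp [act]
      have h1 : ω z ^ Fintype.card A = 1 := by
        rw [← Finset.card_univ, ← Finset.prod_const]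
        calc ∏ _a : A, ω z = ∏ a : A, ω (φZ a z) := Finset.prod_congr rfl fun a _ => (hωa a).symm
          _ = 1 := by rw [← map_prod, hnorm, map_one]
      have h2 : ω z ^ Fintype.card ↥Z = 1 := by rw [← map_pow, pow_card_eq_one, map_one]
      have h3 := pow_gcd_eq_one.2 ⟨h1, h2⟩
      rw [Nat.Coprime.gcd_eq_one (by
        rw [← Nat.card_eq_fintype_card, ← Nat.card_eq_fintype_card]
        exact hcop.coprime_dvd_right (Subgroup.card_subgroup_dvd_card Z)), pow_one] at h3
      simp [h3]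
    apply hχ1
    apply hinj ((P ^ m : ↥W) : MulAut ↥Z)
    rw [← hω, hω1]
    rfl
  · haveI := Fact.mk D.hp
    have hord : orderOf D.f = D.p := orderOf_eq_prime D.hf D.hf1
    obtain ⟨h1, h2⟩ := hcyc D.f D.p hord h
    exact ⟨D.f, D.p, E, χ, Or.inl ⟨rfl, rfl⟩, hEE, hE0, hρE, h1, h2, hχ1, hnontriv, hscal⟩
  · haveI := Fact.mk D.hq
    obtain ⟨h1, h2⟩ := hcyc b D.q (orderOf_eq_prime hb hb1) h
    exact ⟨b, D.q, E, χ, Or.inr ⟨hb, hb1, rfl⟩, hEE, hE0, hρE, h1, h2, hχ1, hnontriv, hscal⟩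

end CfsgLib.PQFPF
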