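import Cfsg.Agent.Lib.PQFPF.Section
import Cfsg.Agent.Lib.PQFPF.Central
import Cfsg.Agent.Lib.PQFPF.WLemma
import Cfsg.Agent.Lib.PQFPF.Unitary
import Cfsg.Agent.Lib.PQFPF.Weights

/-!
# The minimal configuration is impossible
-/

open scoped commutatorElement

namespace CfsgLib.PQFPF

variable {K A k U : Type*} [Group K] [Finite K] [Group.IsSolvable K] [Group A] [Finite A]
  [Field k] [IsAlgClosed k] [AddCommGroup U] [Module k U] [FiniteDimensional k U]

theorem eq_bot_of_minimal (D : PQData A) (φ : A →* MulAut K)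
    (hcop : (Nat.card A).Coprime (Nat.card K)) (hfpf : ∀ g, (∀ a, φ a g = g) → g = 1)
    (hAk : (Nat.card A : k) ≠ 0)
    (ρ : K →* Module.End k U) (πA : A →* Module.End k U)
    (hint : ∀ a x, πA a * ρ x = ρ (φ a x) * πA a) (hsum : ∀ [Fintype A], ∑ a, πA a = 0)
    (S T : Subgroup K) [hSn : S.Normal] (hSinv : ∀ a, ∀ x ∈ S, φ a x ∈ S)
    (hTinv : ∀ a, ∀ x ∈ T, φ a x ∈ T) (hST : S ⊔ T = ⊤) (hSK : ⁅S, (⊤ : Subgroup K)⁆ = S)
    (s t : ℕ) [Fact s.Prime] [Fact t.Prime] (hSp : IsPGroup s ↥S) (hSk : (Nat.card ↥S : k) ≠ 0)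
    (hTt : IsPGroup t ↥T) (hts : t ≠ s)
    (hmin : ∀ N : Subgroup K, N < S → N.Normal → (∀ a, ∀ x ∈ N, φ a x ∈ N) →
      ∀ x ∈ T, ∀ n ∈ N, x * n = n * x)
    (hT' : ∀ x ∈ T, ∀ y ∈ T, ∀ m ∈ S, Commute ⁅x, y⁆ m)
    (hS'c : ∀ z ∈ ⁅S, S⁆, ∀ x : K, x * z = z * x)
    (hinj : ∀ x ∈ S, ρ x = 1 → x = 1) : S = ⊥ := by
  classical
  haveI hpF : Fact D.p.Prime := ⟨D.hp⟩
  haveI hqF : Fact D.q.Prime := ⟨D.hq⟩
  by_contra hSne
  have hpk : (D.p : k) ≠ 0 := fun h => hAk (by rw [D.card, Nat.cast_mul, h, zero_mul])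
  have hqk : (D.q : k) ≠ 0 := fun h => hAk (by rw [D.card, Nat.cast_mul, h, mul_zero])
  have hAK : ∀ ℓ, ℓ = D.p ∨ ℓ = D.q → ℓ.Coprime (Nat.card K) := by
    rintro ℓ (rfl | rfl)
    · exact hcop.coprime_dvd_left ⟨D.q, D.card⟩
    · exact hcop.coprime_dvd_left ⟨D.p, by rw [D.card, mul_comm]⟩
  obtain ⟨h0, hh0, hh01⟩ := D.exists_complement
  -- conclusion of the two centrality criteria
  have hend : ∀ (b : A) (ℓ : ℕ), ((b = D.f ∧ ℓ = D.p) ∨ (b ^ D.q = 1 ∧ b ≠ 1 ∧ ℓ = D.q)) →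
      ∀ P : Subgroup K, P.Normal → P ≤ S → ⁅S, S⁆ ≤ P → (∀ x ∈ S, x⁻¹ * φ b x ∈ P) → P = S := by
    intro b ℓ hb P hPn hPS hS'P hfix
    haveI := hPn
    rcases hb with ⟨rfl, -⟩ | ⟨hbq, hb1, -⟩
    · obtain ⟨e, he, -⟩ := D.complement h0 hh0 hh01
      exact eq_of_kernel_fixed φ hcop hfpf D.f h0 D.q D.hq hh0 e he (D.gen h0 hh0 hh01) S P hPS
        hSinv hSK hfix
    · obtain ⟨e, he, hne⟩ := D.complement b hbq hb1
      exact eq_of_complement_fixed φ hcop hfpf D.p D.f b D.hf e he hne (D.gen b hbq hb1) S P hPS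
        hSinv hS'P hSK hfix
  -- `K` acts on `S` modulo inner automorphisms through `T`
  have hKT : ∀ x : K, ∃ m ∈ S, ∃ w ∈ T, m * w = x := fun x =>
    Subgroup.mem_sup_of_normal_left.1 (hST ▸ Subgroup.mem_top x)
  have hTcomm : ∀ x ∈ T, ∀ y ∈ T, ∀ m ∈ S, x * (y * m * y⁻¹) * x⁻¹ = y * (x * m * x⁻¹) * y⁻¹ := by
    intro x hx y hy m hm
    have h := hT' x hx y hy (y * (x * m * x⁻¹) * y⁻¹)
      (hSn.conj_mem _ (hSn.conj_mem m hm x) y)
    calc x * (y * m * y⁻¹) * x⁻¹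
        = ⁅x, y⁆ * (y * (x * m * x⁻¹) * y⁻¹) * ⁅x, y⁆⁻¹ := by rw [commutatorElement_def]; group
      _ = _ := by rw [h.eq, mul_inv_cancel_right]
  by_cases hab : ⁅S, S⁆ = ⊥
  · -- `S` abelian
    have hScomm : ∀ z ∈ S, ∀ w ∈ S, z * w = w * z := fun z hz w hw => by
      have h := Subgroup.commutator_mem_commutator hz hw
      rw [hab, Subgroup.mem_bot, commutatorElement_eq_one_iff_commute] at h
      exact h.eq
    have hred : ∀ (m : K), m ∈ S → ∀ z ∈ S, m * z * m⁻¹ = z := fun m hm z hz => by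
      rw [hScomm m hm z hz, mul_inv_cancel_right]
    have hconj : ∀ x y : K, ∀ z ∈ S, x * (y * z * y⁻¹) * x⁻¹ = y * (x * z * x⁻¹) * y⁻¹ := by
      intro x y z hz
      obtain ⟨m, hm, v, hv, rfl⟩ := hKT x
      obtain ⟨n, hn, w, hw, rfl⟩ := hKT y
      have key : ∀ m ∈ S, ∀ v u, u ∈ S → (m * v) * u * (m * v)⁻¹ = v * u * v⁻¹ := by
        intro m hm v u hu
        calc (m * v) * u * (m * v)⁻¹ = m * (v * u * v⁻¹) * m⁻¹ := by group
          _ = _ := hred m hm _ (hSn.conj_mem u hu v)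
      rw [key n hn w z hz, key m hm v z hz, key m hm v _ (hSn.conj_mem z hz w),
        key n hn w _ (hSn.conj_mem z hz v)]
      exact hTcomm v hv w hw z hz
    obtain ⟨z0, hz0, hz01⟩ := (Subgroup.bot_or_exists_ne_one S).resolve_left hSne
    obtain ⟨b, ℓ, E, χ, hb, hEE, -, hEρ, hEb, htr, -, hnt, -⟩ := exists_piece D φ hcop hfpf ρ πA
      hint hsum S hSinv hScomm hSk hconj ⟨z0, hz0, fun h => hz01 (hinj z0 hz0 h)⟩
    have hℓ : ℓ = D.p ∨ ℓ = D.q := by rcases hb with ⟨-, h⟩ | ⟨-, -, h⟩ <;> simp [h]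
    haveI : Fact ℓ.Prime := ⟨by rcases hℓ with rfl | rfl; exacts [D.hp, D.hq]⟩
    have hbℓ : b ^ ℓ = 1 := by
      rcases hb with ⟨rfl, rfl⟩ | ⟨h, -, rfl⟩
      · exact D.hf
      · exact h
    let P : Subgroup K :=
      { carrier := {x | x ∈ S ∧ ρ x * E = E}
        one_mem' := ⟨S.one_mem, by rw [map_one, one_mul]⟩
        mul_mem' := fun {x y} hx hy => ⟨S.mul_mem hx.1 hy.1, by
          rw [map_mul, mul_assoc, hy.2, hx.2]⟩
        inv_mem' := fun {x} hx => ⟨S.inv_mem hx.1, by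
          conv_lhs => rw [← hx.2]
          rw [← mul_assoc, ← map_mul, inv_mul_cancel, map_one, one_mul]⟩ }
    have hPn : P.Normal := ⟨fun x hx g => ⟨hSn.conj_mem x hx.1 g, by
      rw [map_mul, map_mul, mul_assoc, ← (hEρ g⁻¹).eq, mul_assoc, ← mul_assoc (ρ x), hx.2,
        ← mul_assoc, ← (hEρ g).eq, mul_assoc, ← map_mul, mul_inv_cancel, map_one, mul_one]⟩⟩
    have hP := hend b ℓ hb P hPn (fun x hx => hx.1) (by rw [hab]; exact bot_le) (fun x hx => by
      letI : CommGroup ↥S :=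
        { (inferInstance : Group ↥S) with
          mul_comm := fun a b => Subtype.ext (hScomm a a.2 b b.2) }
      letI : Fintype ↥S := Fintype.ofFinite _
      let fm : ↥S →* ↥S :=
        { toFun := fun z => ⟨φ b z, hSinv b z z.2⟩
          map_one' := Subtype.ext (map_one _)
          map_mul' := fun u v => Subtype.ext (map_mul (φ b) (u : K) (v : K)) }
      let f : MulAut ↥S := MulEquiv.ofBijective fm (Finite.injective_iff_bijective.1 fun u v h =>
        Subtype.ext ((φ b).injective (congrArg Subtype.val h)))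
      have h := fixed_of_trace (k := k) (by rw [← Nat.card_eq_fintype_card]; exact hSk)
        (ρ.comp S.subtype) E (fun z => hEρ z) ℓ (πA b) (by rw [← map_pow, hbℓ, map_one]) hEb htr f
        (fun z => hint b z) ⟨x, hx⟩
      refine ⟨S.mul_mem (S.inv_mem hx) (hSinv b x hx), ?_⟩
      change ρ (φ b x) * E = ρ x * E at h
      rw [map_mul, mul_assoc, h, ← mul_assoc, ← map_mul, inv_mul_cancel, map_one, one_mul])
    exact hnt fun z hz => (show z ∈ P from hP.symm ▸ hz).2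
  -- `S` is not abelian; use the weights of its derived subgroup
  let Z : Subgroup K := ⁅S, S⁆
  have hZinv : ∀ a, ∀ z ∈ Z, φ a z ∈ Z := by
    intro a z hz
    have hle : Z.map (φ a).toMonoidHom ≤ Z := by
      rw [Subgroup.map_commutator]
      apply Subgroup.commutator_mono <;>
      · rintro _ ⟨x, hx, rfl⟩; exact hSinv a x hx
    exact hle (Subgroup.mem_map_of_mem _ hz)
  have hZS : Z ≤ S := Subgroup.commutator_le_self S
  obtain ⟨z0, hz0, hz01⟩ := (Subgroup.bot_or_exists_ne_one Z).resolve_left hab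
  obtain ⟨b, ℓ, E, χ, hb, hEE, hE0, hEρ, hEb, htr, -, hnt, hscal⟩ := exists_piece D φ hcop hfpf ρ πA
    hint hsum Z hZinv (fun z hz w _ => (hS'c z hz w).symm)
    (fun h => hSk (by
      obtain ⟨c, hc⟩ := Subgroup.card_dvd_of_le hZS
      rw [hc, Nat.cast_mul, h, zero_mul]))
    (fun x y z hz => by
      rw [hS'c z hz y, mul_inv_cancel_right, hS'c z hz x, mul_inv_cancel_right, hS'c z hz y,
        mul_inv_cancel_right]) ⟨z0, hz0, fun h => hz01 (hinj z0 (hZS hz0) h)⟩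
  have hscal' : ∀ z : ↥Z, ρ (z : K) * E = ((χ z : kˣ) : k) • E :=
    hscal fun z hz x => hS'c z hz x
  have hℓ : ℓ = D.p ∨ ℓ = D.q := by rcases hb with ⟨-, h⟩ | ⟨-, -, h⟩ <;> simp [h]
  haveI : Fact ℓ.Prime := ⟨by rcases hℓ with rfl | rfl; exacts [D.hp, D.hq]⟩
  have hℓk : (ℓ : k) ≠ 0 := by rcases hℓ with rfl | rfl <;> assumption
  have hbℓ : b ^ ℓ = 1 := by
    rcases hb with ⟨rfl, rfl⟩ | ⟨h, -, rfl⟩
    · exact D.hf
    · exact h
  have hEinj : ∀ a c : k, a • E = c • E → a = c := fun a c h => by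
    by_contra hne
    have h' : (a - c) • E = 0 := by rw [sub_smul, h, sub_self]
    exact hE0 ((smul_eq_zero.1 h').resolve_left (sub_ne_zero.2 hne))
  -- the character is fixed by `b`
  have hχb : ∀ z : ↥Z, χ ⟨φ b z, hZinv b z z.2⟩ = χ z := by
    intro z
    apply Units.ext
    apply hEinj
    rw [← hscal']
    have h1 : πA b * (ρ (z : K) * E) * πA b⁻¹ = ρ (φ b z) * E := by
      rw [← mul_assoc, hint, mul_assoc (ρ (φ b (z : K))), ← hEb.eq, mul_assoc, mul_assoc, ← map_mul,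
        mul_inv_cancel, map_one, mul_one]
    rw [← h1, hscal', mul_smul_comm, smul_mul_assoc, ← hEb.eq, mul_assoc, ← map_mul, mul_inv_cancel,
      map_one, mul_one]
  -- the pairing
  have hcomS : ∀ x y : ↥S, ⁅(x : K), (y : K)⁆ ∈ Z := fun x y =>
    Subgroup.commutator_mem_commutator x.2 y.2
  let β0 : ↥S → ↥S → kˣ := fun x y => χ ⟨⁅(x : K), (y : K)⁆, hcomS x y⟩
  have hβmulr : ∀ x y y', β0 x (y * y') = β0 x y * β0 x y' := by
    intro x y y'
    simp only [β0, ← map_mul]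
    congr 1
    apply Subtype.ext
    show ⁅(x : K), (y : K) * y'⁆ = ⁅(x : K), (y : K)⁆ * ⁅(x : K), (y' : K)⁆
    calc ⁅(x : K), (y : K) * y'⁆
        = ⁅(x : K), (y : K)⁆ * ((y : K) * ⁅(x : K), (y' : K)⁆ * (y : K)⁻¹) := by
          rw [commutatorElement_def, commutatorElement_def, commutatorElement_def]; group
      _ = _ := by rw [hS'c _ (hcomS x y') y, mul_inv_cancel_right]
  have hβmull : ∀ x x' y, β0 (x * x') y = β0 x y * β0 x' y := by
    intro x x' y
    simp only [β0, ← map_mul]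
    congr 1
    apply Subtype.ext
    show ⁅(x : K) * x', (y : K)⁆ = ⁅(x : K), (y : K)⁆ * ⁅(x' : K), (y : K)⁆
    calc ⁅(x : K) * x', (y : K)⁆
        = ((x : K) * ⁅(x' : K), (y : K)⁆ * (x : K)⁻¹) * ⁅(x : K), (y : K)⁆ := by
          rw [commutatorElement_def, commutatorElement_def, commutatorElement_def]; group
      _ = _ := by
          rw [hS'c _ (hcomS x' y) x, mul_inv_cancel_right, hS'c _ (hcomS x y)]
  have hβ1l : ∀ y, β0 1 y = 1 := fun y => by
    have := hβmull 1 1 y; rw [one_mul] at this; exact left_eq_mul.1 this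
  have hβ1r : ∀ x, β0 x 1 = 1 := fun x => by
    have := hβmulr x 1 1; rw [one_mul] at this; exact left_eq_mul.1 this
  let βS : ↥S →* ↥S →* kˣ :=
    { toFun := fun x => { toFun := β0 x, map_one' := hβ1r x, map_mul' := hβmulr x }
      map_one' := MonoidHom.ext fun y => hβ1l y
      map_mul' := fun x x' => MonoidHom.ext fun y => hβmull x x' y }
  let Rad : Subgroup ↥S := βS.ker
  have hRadmem : ∀ x, x ∈ Rad ↔ ∀ y, β0 x y = 1 := fun x =>
    ⟨fun h y => DFunLike.congr_fun (MonoidHom.mem_ker.1 h) y,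
      fun h => MonoidHom.mem_ker.2 (MonoidHom.ext h)⟩
  letI : CommGroup (↥S ⧸ Rad) :=
    { (inferInstance : Group (↥S ⧸ Rad)) with
      mul_comm := fun a c => by
        induction a using QuotientGroup.induction_on with
        | H x =>
          induction c using QuotientGroup.induction_on with
          | H y =>
            rw [← QuotientGroup.mk_mul, ← QuotientGroup.mk_mul, QuotientGroup.eq, MonoidHom.mem_ker,
              map_mul, map_inv, map_mul, map_mul, mul_comm (βS y) (βS x), inv_mul_cancel] }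
  let ν : ↥S →* ↥S ⧸ Rad := QuotientGroup.mk' Rad
  have hν : Function.Surjective ν := QuotientGroup.mk'_surjective Rad
  have halt0 : ∀ x, β0 x x = 1 := fun x => by
    simp only [β0, commutatorElement_self]
    exact map_one χ
  have hanti0 : ∀ x y, β0 x y = (β0 y x)⁻¹ := fun x y => by
    have h := halt0 (x * y)
    rw [hβmull, hβmulr, hβmulr, halt0, halt0, one_mul, mul_one] at h
    exact eq_inv_of_mul_eq_one_left h
  let β1 : ↥S ⧸ Rad →* ↥S →* kˣ := QuotientGroup.lift Rad βS le_rfl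
  let β : ↥S ⧸ Rad →* ↥S ⧸ Rad →* kˣ :=
    { toFun := fun v => QuotientGroup.lift Rad (β1 v) (fun y hy => by
        obtain ⟨x, rfl⟩ := hν v
        show β0 x y = 1
        rw [hanti0, (hRadmem y).1 hy x, inv_one])
      map_one' := by
        ext w
        simp
      map_mul' := fun v v' => by
        ext w
        simp }
  have hβν : ∀ x y, β (ν x) (ν y) = β0 x y := fun x y => rfl
  have hnd : ∀ v, (∀ w, β v w = 1) → v = 1 := by
    intro v hv
    obtain ⟨x, rfl⟩ := hν v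
    exact (QuotientGroup.eq_one_iff x).2 ((hRadmem x).2 fun y => (hβν x y).symm.trans (hv _))
  have halt : ∀ v, β v v = 1 := by
    intro v
    obtain ⟨x, rfl⟩ := hν v
    rw [hβν]; exact halt0 x
  -- restriction to the piece
  let U1 := LinearMap.range E
  have hU1 : ∀ g : Module.End k U, Commute E g → ∀ w ∈ U1, g w ∈ U1 := by
    rintro g hg _ ⟨v, rfl⟩
    exact ⟨g v, LinearMap.congr_fun hg.eq v⟩
  have hEfix : ∀ w ∈ U1, E w = w := by
    rintro _ ⟨v, rfl⟩
    exact LinearMap.congr_fun hEE v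
  haveI : Nontrivial ↥U1 := by
    rw [Submodule.nontrivial_iff_ne_bot]
    exact fun h => hE0 (LinearMap.range_eq_bot.1 h)
  let π1 : ↥S →* Module.End k ↥U1 :=
    { toFun := fun x => (ρ (x : K)).restrict (hU1 _ (hEρ x))
      map_one' := LinearMap.ext fun w => Subtype.ext (by simp)
      map_mul' := fun x y => LinearMap.ext fun w => Subtype.ext (by simp) }
  have hEbinv : Commute E (πA b⁻¹) := by
    show E * πA b⁻¹ = πA b⁻¹ * E
    calc E * πA b⁻¹ = πA b⁻¹ * (πA b * E) * πA b⁻¹ := by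
          rw [← mul_assoc, ← map_mul, inv_mul_cancel, map_one, one_mul]
      _ = _ := by
          rw [← hEb.eq, mul_assoc, mul_assoc, ← map_mul, mul_inv_cancel, map_one, mul_one]
  let s1 : (Module.End k ↥U1)ˣ :=
    { val := (πA b).restrict (hU1 _ hEb)
      inv := (πA b⁻¹).restrict (hU1 _ hEbinv)
      val_inv := LinearMap.ext fun w => Subtype.ext (by
        show (πA b * πA b⁻¹) (w : U) = w
        rw [← map_mul, mul_inv_cancel, map_one]; rfl)
      inv_val := LinearMap.ext fun w => Subtype.ext (by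
        show (πA b⁻¹ * πA b) (w : U) = w
        rw [← map_mul, inv_mul_cancel, map_one]; rfl) }
  have hpow1 : ∀ (n : ℕ) (w : ↥U1), (((s1 : Module.End k ↥U1) ^ n) w : U) =
      (πA b ^ n) (w : U) := by
    intro n
    induction n with
    | zero => simp
    | succ n ih =>
      intro w
      rw [pow_succ', pow_succ', Module.End.mul_apply, Module.End.mul_apply, ← ih]
      rfl
  let σm : ↥S →* ↥S :=
    { toFun := fun x => ⟨φ b x, hSinv b x x.2⟩
      map_one' := Subtype.ext (map_one _)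
      map_mul' := fun x y => Subtype.ext (map_mul (φ b) (x : K) (y : K)) }
  let σ : MulAut ↥S := MulEquiv.ofBijective σm (Finite.injective_iff_bijective.1 fun x y h =>
    Subtype.ext ((φ b).injective (congrArg Subtype.val h)))
  have hσβ : ∀ x y, β0 (σ x) (σ y) = β0 x y := by
    intro x y
    rw [show β0 x y = χ ⟨⁅(x : K), (y : K)⁆, hcomS x y⟩ from rfl, ← hχb]
    exact congrArg χ (Subtype.ext (map_commutatorElement (φ b) (x : K) (y : K)).symm)
  have hσRad : Rad.map σ.toMonoidHom = Rad := by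
    apply le_antisymm
    · rintro _ ⟨x, hx, rfl⟩
      rw [hRadmem]
      intro y
      obtain ⟨y', rfl⟩ := σ.surjective y
      show β0 (σ x) (σ y') = 1
      rw [hσβ]; exact (hRadmem x).1 hx y'
    · intro x hx
      refine ⟨σ.symm x, (hRadmem _).2 fun y => ?_, σ.apply_symm_apply x⟩
      rw [← hσβ, σ.apply_symm_apply]
      exact (hRadmem x).1 hx _
  let τ : MulAut (↥S ⧸ Rad) := QuotientGroup.congr Rad Rad σ hσRad
  have hστ : ∀ x, ν (σ x) = τ (ν x) := fun x => rfl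
  have hτβ : ∀ v w, β (τ v) (τ w) = β v w := by
    intro v w
    obtain ⟨x, rfl⟩ := hν v
    obtain ⟨y, rfl⟩ := hν w
    rw [← hστ, ← hστ, hβν, hβν, hσβ]
  have hpowτ : ∀ (n : ℕ) (x : ↥S), (τ ^ n) (ν x) = ν ((σ ^ n) x) := by
    intro n
    induction n with
    | zero => intro x; rfl
    | succ n ih => intro x; rw [pow_succ', pow_succ', MulAut.mul_apply, ih, MulAut.mul_apply, hστ]
  have hσpow : ∀ (n : ℕ) (x : ↥S), ((σ ^ n) x : K) = φ (b ^ n) x := by
    intro n
    induction n with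
    | zero => intro x; simp
    | succ n ih =>
      intro x
      rw [pow_succ', pow_succ', map_mul, MulAut.mul_apply, MulAut.mul_apply, ← ih]
      rfl
  have hτℓ : τ ^ ℓ = 1 := by
    ext v
    obtain ⟨x, rfl⟩ := hν v
    rw [hpowτ, show (σ ^ ℓ) x = x from Subtype.ext (by
      rw [hσpow, hbℓ, map_one, MulAut.one_apply])]
    rfl
  haveI : Finite (↥S ⧸ Rad) := Quotient.finite _
  obtain ⟨hfree, hndR, hdec, N, hN, hNcase⟩ := card_commutator_cases (Q := ↥S) (V := ↥S ⧸ Rad)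
    (k := k) (U := ↥U1) hSk ℓ hℓk
    ((hAK ℓ hℓ).coprime_dvd_right (Subgroup.card_subgroup_dvd_card S)) π1 ν hν β hnd halt
    (fun x y => LinearMap.ext fun w => Subtype.ext (by
      show (ρ (x : K) * ρ (y : K)) (w : U) =
        ((β0 x y : kˣ) : k) • ((ρ (y : K) * ρ (x : K)) (w : U))
      have h1 : ρ (x : K) * ρ (y : K) * E = ((β0 x y : kˣ) : k) • (ρ (y : K) * ρ (x : K) * E) := by
        rw [← map_mul, ← map_mul,
          show (x : K) * y = ⁅(x : K), (y : K)⁆ * ((y : K) * x) by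
            rw [commutatorElement_def]; group,
          map_mul, mul_assoc, ← (hEρ ((y : K) * x)).eq, ← mul_assoc,
          hscal' ⟨_, hcomS x y⟩, smul_mul_assoc]
      have h2 := LinearMap.congr_fun h1 (w : U)
      simpa only [Module.End.mul_apply, LinearMap.smul_apply, hEfix _ w.2] using h2))
    σ τ hστ hτβ hτℓ s1
    (Units.ext (LinearMap.ext fun w => Subtype.ext (by
      rw [Units.val_pow_eq_pow_val, hpow1, ← map_pow, hbℓ, map_one]; rfl)))
    (fun x => LinearMap.ext fun w => Subtype.ext (LinearMap.congr_fun (hint b x) (w : U)))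
    (LinearMap.ext fun w => Subtype.ext (by
      rw [LinearMap.sum_apply, Submodule.coe_sum]
      simp only [hpow1]
      rw [← LinearMap.sum_apply]
      have h2 := LinearMap.congr_fun htr (w : U)
      rw [Module.End.mul_apply, hEfix _ w.2] at h2
      rw [h2]; rfl))
  -- the radical as a subgroup of `K`
  let P : Subgroup K := Rad.map S.subtype
  have hPmem : ∀ x (hx : x ∈ S), x ∈ P ↔ (⟨x, hx⟩ : ↥S) ∈ Rad := fun x hx => by
    constructor
    · rintro ⟨y, hy, rfl⟩; exact hy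
    · intro h; exact ⟨_, h, rfl⟩
  have hβconj : ∀ (g : K) (x y : ↥S), β0 ⟨g * x * g⁻¹, hSn.conj_mem x x.2 g⟩
      ⟨g * y * g⁻¹, hSn.conj_mem y y.2 g⟩ = β0 x y := by
    intro g x y
    refine congrArg χ (Subtype.ext ?_)
    show ⁅g * (x : K) * g⁻¹, g * (y : K) * g⁻¹⁆ = ⁅(x : K), (y : K)⁆
    calc ⁅g * (x : K) * g⁻¹, g * (y : K) * g⁻¹⁆ = g * ⁅(x : K), (y : K)⁆ * g⁻¹ := by
          rw [commutatorElement_def, commutatorElement_def]; group
      _ = _ := by rw [hS'c _ (hcomS x y) g, mul_inv_cancel_right]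
  have hRadconj : ∀ (g : K) (x : ↥S), x ∈ Rad →
      (⟨g * x * g⁻¹, hSn.conj_mem x x.2 g⟩ : ↥S) ∈ Rad := by
    intro g x hx
    rw [hRadmem]
    intro y
    have hy : y = (⟨g * ((g⁻¹ * y * g⁻¹⁻¹ : K)) * g⁻¹,
        hSn.conj_mem _ (hSn.conj_mem y y.2 g⁻¹) g⟩ : ↥S) := Subtype.ext (by
      show (y : K) = g * (g⁻¹ * y * g⁻¹⁻¹) * g⁻¹
      group)
    rw [hy]
    exact (hβconj g x ⟨_, hSn.conj_mem y y.2 g⁻¹⟩).trans ((hRadmem x).1 hx _)
  have hPn : P.Normal := ⟨by
    rintro _ ⟨x, hx, rfl⟩ g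
    exact ⟨_, hRadconj g x hx, rfl⟩⟩
  have hS'P : ⁅S, S⁆ ≤ P := by
    intro z hz
    refine (hPmem z (hZS hz)).2 ((hRadmem _).2 fun y => ?_)
    refine (congrArg χ (Subtype.ext ?_)).trans (map_one χ)
    show ⁅z, (y : K)⁆ = 1
    rw [commutatorElement_eq_one_iff_commute]
    exact (hS'c z hz y).symm
  have hPne : P ≠ S := by
    intro h
    apply hnt
    intro z hz
    have hgen : ∀ x : ↥Z, χ x = 1 := by
      have hle : Z ≤ χ.ker.map Z.subtype := by
        rw [Subgroup.commutator_le]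
        intro x hx y hy
        have hxR : (⟨x, hx⟩ : ↥S) ∈ Rad := (hPmem x hx).1 (h.symm ▸ hx)
        exact ⟨⟨_, hcomS ⟨x, hx⟩ ⟨y, hy⟩⟩, MonoidHom.mem_ker.2 ((hRadmem _).1 hxR ⟨y, hy⟩), rfl⟩
      intro x
      obtain ⟨x', hx', he⟩ := hle x.2
      rw [← Subtype.ext he]
      exact hx'
    have := hscal' ⟨z, hz⟩
    rwa [hgen, Units.val_one, one_smul] at this
  -- `τ` is not trivial
  have hτne : τ ≠ 1 := by
    intro h1
    apply hPne
    refine hend b ℓ hb P hPn (Subgroup.map_subtype_le _) hS'P fun x hx => ?_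
    refine ⟨(⟨x, hx⟩ : ↥S)⁻¹ * σ ⟨x, hx⟩, ?_, rfl⟩
    show _ ∈ Rad
    rw [← QuotientGroup.eq_one_iff]
    show ν ((⟨x, hx⟩ : ↥S)⁻¹ * σ ⟨x, hx⟩) = 1
    rw [map_mul, map_inv, hστ, h1, MulAut.one_apply, inv_mul_cancel]
  have hN1 : N ≠ 1 := by
    rintro rfl
    apply hτne
    ext v
    rw [one_pow, Subgroup.card_eq_one] at hN
    have : v⁻¹ * τ v = 1 := by
      have hm : commHom τ v ∈ (commHom τ).range := ⟨v, rfl⟩
      rw [hN, Subgroup.mem_bot] at hm
      exact hm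
    exact (inv_mul_eq_one.1 this).symm
  have hNℓ : N = ℓ - 1 := hNcase.resolve_left hN1
  -- `N` is a power of `s`
  obtain ⟨n, hSn'⟩ : ∃ n, Nat.card ↥S = s ^ n := IsPGroup.iff_card.1 hSp
  have hNdvd : N ∣ s ^ n := by
    rw [← hSn']
    refine dvd_trans ?_ (Subgroup.card_quotient_dvd_card Rad)
    exact (dvd_pow_self N two_ne_zero).trans (hN ▸ Subgroup.card_subgroup_dvd_card _)
  obtain ⟨m, hm, hNm⟩ := (Nat.dvd_prime_pow (Fact.out : s.Prime)).1 hNdvd
  have hm0 : 0 < m := Nat.pos_of_ne_zero fun h => hN1 (by rw [hNm, h, pow_zero])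
  rcases hb with ⟨rfl, rfl⟩ | ⟨hbq, hb1, rfl⟩
  · -- the kernel: `q` would divide `|S|`
    have hqs : D.q ∣ s ^ m := hNm ▸ hNℓ ▸ D.dvd
    have hqdvd : D.q ∣ Nat.card K :=
      (hqs.trans (pow_dvd_pow s hm)).trans (hSn' ▸ Subgroup.card_subgroup_dvd_card S)
    exact D.hq.one_lt.ne' (Nat.Coprime.eq_one_of_dvd (hAK D.q (Or.inr rfl)) hqdvd)
  -- a complement: `q` is a Fermat prime and `s = 2`
  have hq2 : D.q ≠ 2 := fun h => hN1 (by omega)
  have hs2 : s = 2 := by
    have hodd := D.hq.odd_of_ne_two hq2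
    have h2 : 2 ∣ s ^ m := by
      rw [← hNm, hNℓ]
      obtain ⟨r, hr⟩ := hodd
      exact ⟨r, by omega⟩
    exact ((Nat.prime_dvd_prime_iff_eq Nat.prime_two Fact.out).1
      (Nat.prime_two.dvd_of_dvd_pow h2)).symm
  subst hs2
  have hqm : D.q = 2 ^ m + 1 := by have := D.hq.pos; omega
  -- the action of `K` on the quotient
  have hcRad : ∀ g : K, Rad.map (MulAut.conjNormal g : MulAut ↥S).toMonoidHom = Rad := by
    intro g
    apply le_antisymm
    · rintro _ ⟨x, hx, rfl⟩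
      convert hRadconj g x hx using 1
      exact Subtype.ext (by simp)
    · intro x hx
      refine ⟨_, hRadconj g⁻¹ x hx, Subtype.ext ?_⟩
      simp
      group
  let cV : K →* MulAut (↥S ⧸ Rad) :=
    { toFun := fun g => QuotientGroup.congr Rad Rad (MulAut.conjNormal g) (hcRad g)
      map_one' := by
        ext v
        obtain ⟨x, rfl⟩ := hν v
        show ν ((MulAut.conjNormal (1 : K) : MulAut ↥S) x) = ν x
        rw [map_one, MulAut.one_apply]
      map_mul' := fun g g' => by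
        ext v
        obtain ⟨x, rfl⟩ := hν v
        show ν ((MulAut.conjNormal (g * g') : MulAut ↥S) x) =
          ν ((MulAut.conjNormal g : MulAut ↥S) ((MulAut.conjNormal g' : MulAut ↥S) x))
        rw [map_mul, MulAut.mul_apply] }
  have hcVν : ∀ g x, cV g (ν x) = ν ⟨g * x * g⁻¹, hSn.conj_mem x x.2 g⟩ := fun g x =>
    congrArg ν (Subtype.ext (MulAut.conjNormal_apply g x))
  have hcVS : ∀ g ∈ S, cV g = 1 := by
    intro g hg
    ext v
    obtain ⟨x, rfl⟩ := hν v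
    rw [hcVν, MulAut.one_apply,
      show (⟨g * x * g⁻¹, hSn.conj_mem x x.2 g⟩ : ↥S) = ⟨g, hg⟩ * x * ⟨g, hg⟩⁻¹ from rfl,
      map_mul, map_mul, map_inv, mul_comm (ν ⟨g, hg⟩), mul_inv_cancel_right]
  let W : Subgroup (MulAut (↥S ⧸ Rad)) := T.map cV
  have hWc : ∀ u ∈ W, ∀ v ∈ W, u * v = v * u := by
    rintro _ ⟨x, hx, rfl⟩ _ ⟨y, hy, rfl⟩
    ext v
    obtain ⟨z, rfl⟩ := hν v
    rw [MulAut.mul_apply, MulAut.mul_apply, hcVν, hcVν, hcVν, hcVν]
    exact congrArg ν (Subtype.ext (hTcomm x hx y hy z z.2))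
  have hWβ : ∀ u ∈ W, ∀ v w, β (u v) (u w) = β v w := by
    rintro _ ⟨g, -, rfl⟩ v w
    obtain ⟨x, rfl⟩ := hν v
    obtain ⟨y, rfl⟩ := hν w
    rw [hcVν, hcVν, hβν, hβν]
    exact hβconj g x y
  have hτW : ∀ u ∈ W, τ * u * τ⁻¹ ∈ W := by
    rintro _ ⟨g, hg, rfl⟩
    refine ⟨φ b g, hTinv b g hg, ?_⟩
    rw [eq_mul_inv_iff_mul_eq]
    ext v
    obtain ⟨x, rfl⟩ := hν v
    rw [MulAut.mul_apply, MulAut.mul_apply, hcVν, ← hστ, hcVν, ← hστ]
    refine congrArg ν (Subtype.ext ?_)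
    show φ b g * φ b (x : K) * (φ b g)⁻¹ = φ b (g * x * g⁻¹)
    simp
  have hWodd : Odd (Nat.card ↥W) := by
    obtain ⟨l, hl⟩ := IsPGroup.iff_card.1 hTt
    obtain ⟨i, -, hi⟩ := (Nat.dvd_prime_pow (Fact.out : t.Prime)).1
      (hl ▸ Subgroup.card_map_dvd T cV)
    rw [hi]
    exact ((Fact.out : t.Prime).odd_of_ne_two hts).pow
  have hWpow : ∀ u ∈ W, u ^ Nat.card K = 1 := by
    rintro _ ⟨g, -, rfl⟩
    rw [← map_pow, pow_card_eq_one', map_one]
  -- squares are centralized by `T`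
  have hsq : ∀ v : ↥S ⧸ Rad, v * v = 1 := by
    let q0 : ↥S →* Abelianization ↥S := Abelianization.of
    let N0 : Subgroup ↥S := (powMonoidHom 2 : Abelianization ↥S →* _).range.comap q0
    have hN0inv : ∀ g : MulAut K, (hg : ∀ x ∈ S, g x ∈ S) → ∀ x : ↥S, x ∈ N0 →
        (⟨g x, hg x x.2⟩ : ↥S) ∈ N0 := by
      intro g hg x hx
      let gm : ↥S →* ↥S :=
        { toFun := fun z => ⟨g z, hg z z.2⟩
          map_one' := Subtype.ext (map_one g)
          map_mul' := fun u v => Subtype.ext (map_mul g (u : K) (v : K)) }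
      obtain ⟨y, hy⟩ := hx
      refine ⟨Abelianization.map gm y, ?_⟩
      show (Abelianization.map gm y) ^ 2 = q0 (gm x)
      rw [← map_pow, show y ^ 2 = q0 x from hy]
      exact Abelianization.map_of gm x
    have hN0lt : N0.map S.subtype < S := by
      refine lt_of_le_of_ne (Subgroup.map_subtype_le _) fun h => ?_
      have htop : ∀ y : Abelianization ↥S, ∃ z, z ^ 2 = y := by
        intro y
        obtain ⟨x, rfl⟩ : ∃ x, q0 x = y := QuotientGroup.mk_surjective y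
        obtain ⟨x', hx', he⟩ : (x : K) ∈ N0.map S.subtype := h.symm ▸ x.2
        rw [← Subtype.ext he]
        exact hx'
      have hbij : Function.Injective (fun z : Abelianization ↥S => z ^ 2) :=
        Finite.injective_iff_surjective.2 htop
      haveI : Nontrivial ↥S := (Subgroup.nontrivial_iff_ne_bot S).2 hSne
      have hlt := Group.IsSolvable.commutator_lt_top_of_nontrivial ↥S
      have hcard1 : Nat.card (Abelianization ↥S) ≠ 1 := fun h1 =>
        hlt.ne (Subgroup.index_eq_one.1 h1)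
      obtain ⟨i, -, hi⟩ := (Nat.dvd_prime_pow Nat.prime_two).1
        (hSn' ▸ Subgroup.card_quotient_dvd_card (commutator ↥S))
      have hi' : Nat.card (Abelianization ↥S) = 2 ^ i := hi
      have h2 : 2 ∣ Nat.card (Abelianization ↥S) := by
        rw [hi']
        exact dvd_pow_self 2 (fun h0 => hcard1 (by rw [hi', h0, pow_zero]))
      obtain ⟨y, hy⟩ := exists_prime_orderOf_dvd_card' 2 h2
      have hy1 : y ^ 2 = 1 := hy ▸ pow_orderOf_eq_one y
      have : y = 1 := hbij (by show y ^ 2 = 1 ^ 2; rw [hy1, one_pow])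
      rw [this, orderOf_one] at hy
      exact absurd hy (by norm_num)
    have hN0n : (N0.map S.subtype).Normal := ⟨by
      rintro _ ⟨x, hx, rfl⟩ g
      exact ⟨_, hN0inv (MulAut.conj g) (fun y hy => hSn.conj_mem y hy g) x hx, rfl⟩⟩
    have hfixsq : ∀ g ∈ T, ∀ v : ↥S ⧸ Rad, cV g (v * v) = v * v := by
      intro g hg v
      obtain ⟨x, rfl⟩ := hν v
      rw [← map_mul, hcVν]
      refine congrArg ν (Subtype.ext ?_)
      show g * ((x * x : ↥S) : K) * g⁻¹ = ((x * x : ↥S) : K)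
      have hmem : ((x * x : ↥S) : K) ∈ N0.map S.subtype := ⟨x * x, ⟨q0 x, by
        show q0 x ^ 2 = q0 (x * x)
        rw [map_mul, pow_two]⟩, rfl⟩
      rw [hmin _ hN0lt hN0n (by
        rintro a _ ⟨y, hy, rfl⟩
        exact ⟨_, hN0inv (φ a) (hSinv a) y hy, rfl⟩) g hg _ hmem, mul_inv_cancel_right]
    let K2 : Subgroup K := (Subgroup.comap ν (powMonoidHom 2 : (↥S ⧸ Rad) →* _).ker).map S.subtype
    have hK2 : S ≤ K2 := by
      conv_lhs => rw [← hSK]
      rw [Subgroup.commutator_le]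
      intro x hx g _
      obtain ⟨u, hu, w, hw, rfl⟩ := hKT g
      refine ⟨⟨x, hx⟩ * ⟨u * w * x⁻¹ * (u * w)⁻¹, hSn.conj_mem _ (S.inv_mem hx) _⟩, ?_, ?_⟩
      · show (ν (⟨x, hx⟩ * _)) ^ 2 = 1
        have e : ν ⟨u * w * x⁻¹ * (u * w)⁻¹, hSn.conj_mem _ (S.inv_mem hx) _⟩ =
            cV (u * w) (ν ⟨x, hx⟩⁻¹) := (hcVν (u * w) (⟨x, hx⟩⁻¹)).symm
        rw [map_mul, e, map_mul cV, hcVS u hu, one_mul, map_inv, map_inv,
          pow_two, mul_mul_mul_comm, ← mul_inv, ← map_mul (cV w), hfixsq w hw, mul_inv_cancel]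
      · show x * (u * w * x⁻¹ * (u * w)⁻¹) = ⁅x, u * w⁆
        rw [commutatorElement_def]; group
    intro v
    obtain ⟨x, rfl⟩ := hν v
    obtain ⟨x', hx', he⟩ := hK2 x.2
    rw [← Subtype.ext he, ← pow_two]
    exact hx'
  have hanti : ∀ v w, β v w = 1 → β w v = 1 := by
    intro v w h
    obtain ⟨x, rfl⟩ := hν v
    obtain ⟨y, rfl⟩ := hν w
    rw [hβν] at h ⊢
    rw [hanti0, h, inv_one]
  have hβinj : Function.Injective β := by
    intro u v h
    apply inv_mul_eq_one.1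
    apply hnd
    intro w
    rw [map_mul, map_inv, h, inv_mul_cancel, MonoidHom.one_apply]
  have hk1 : ∀ x : kˣ, x * x = 1 → ∀ y : kˣ, y * y = 1 → x ≠ 1 → y ≠ 1 → x = y := by
    intro x hx y hy hx1 hy1
    have key : ∀ z : kˣ, z * z = 1 → z ≠ 1 → (z : k) = -1 := fun z hz hz1 => by
      rcases mul_self_eq_one_iff.1 (show (z : k) * z = 1 by simpa using congrArg Units.val hz) with h | h
      · exact absurd (Units.ext h) hz1
      · exact h
    exact Units.ext ((key x hx hx1).trans (key y hy hy1).symm)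
  have hpow22 : (2 ^ m) ^ 2 = 2 ^ (2 * m) := by rw [← pow_mul, mul_comm]
  have hrange : Nat.card {x : ↥S ⧸ Rad // ∃ v, v⁻¹ * τ v = x} = 2 ^ (2 * m) := by
    rw [← hpow22, ← hNm, ← hN]
    exact Nat.card_congr (Equiv.subtypeEquivRight fun x => Iff.rfl)
  have hsmall : 2 * m < 2 * (D.q - 1) := by
    have := Nat.lt_two_pow_self (n := m)
    omega
  have hτcomm : ∀ u ∈ W, τ * u = u * τ := fun u hu =>
    commute_of_small_commutator hsq β hβinj hanti hk1 D.q hq2 τ hτℓ hτβ W hWc hWodd hWβ hτW m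
      hsmall hrange hu
  have hτR : ∀ x ∈ (commHom τ).range, τ x ∈ (commHom τ).range := by
    rintro _ ⟨v, rfl⟩
    exact ⟨τ v, by show (τ v)⁻¹ * τ (τ v) = τ (v⁻¹ * τ v); rw [map_mul, map_inv]⟩
  have htriv : ∀ u ∈ W, ∀ r ∈ (commHom τ).range, u r = r := by
    intro u hu
    refine eq_self_of_commute hsq β D.q m hqm hm0 (commHom τ).range
      (by rw [hN, hNm, hpow22]) τ hτℓ hτR hfree hndR hτβ u ?_ (hWβ u hu) (hτcomm u hu).symm
      (Nat.card K) (hWpow u hu) (hAK D.q (Or.inr rfl)).symm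
    rintro _ ⟨v, rfl⟩
    refine ⟨u v, ?_⟩
    show (u v)⁻¹ * τ (u v) = u (v⁻¹ * τ v)
    rw [map_mul, map_inv, ← MulAut.mul_apply _ τ u v, hτcomm u hu, MulAut.mul_apply]
  -- so `T` acts trivially modulo the fixed points, which is absurd
  let K3 : Subgroup K := (Subgroup.comap ν (commHom τ).ker).map S.subtype
  have hK3 : S ≤ K3 := by
    conv_lhs => rw [← hSK]
    rw [Subgroup.commutator_le]
    intro x hx g _
    obtain ⟨u, hu, w, hw, rfl⟩ := hKT g
    refine ⟨⟨x, hx⟩ * ⟨u * w * x⁻¹ * (u * w)⁻¹, hSn.conj_mem _ (S.inv_mem hx) _⟩, ?_, ?_⟩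
    · show commHom τ (ν (⟨x, hx⟩ * _)) = 1
      have e : ν ⟨u * w * x⁻¹ * (u * w)⁻¹, hSn.conj_mem _ (S.inv_mem hx) _⟩ =
          cV (u * w) (ν ⟨x, hx⟩⁻¹) := (hcVν (u * w) (⟨x, hx⟩⁻¹)).symm
      rw [map_mul ν, e, map_mul cV, hcVS u hu, one_mul]
      obtain ⟨c, r, hc, hr, hcr⟩ := hdec (ν ⟨x, hx⟩)
      have hwW : cV w ∈ W := Subgroup.mem_map_of_mem _ hw
      rw [map_inv ν, map_inv, hcr, map_mul (cV w), htriv _ hwW r hr, mul_inv,
        show c * r * ((cV w c)⁻¹ * r⁻¹) = c * (cV w c)⁻¹ by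
          rw [mul_mul_mul_comm, mul_inv_cancel, mul_one]]
      have hcw : τ (cV w c) = cV w c := by
        rw [← MulAut.mul_apply, hτcomm _ hwW, MulAut.mul_apply, hc]
      show (c * (cV w c)⁻¹)⁻¹ * τ (c * (cV w c)⁻¹) = 1
      rw [map_mul, map_inv, hc, hcw, inv_mul_cancel]
    · show x * (u * w * x⁻¹ * (u * w)⁻¹) = ⁅x, u * w⁆
      rw [commutatorElement_def]; group
  apply hτne
  ext v
  obtain ⟨x, rfl⟩ := hν v
  obtain ⟨x', hx', he⟩ := hK3 x.2
  rw [← Subtype.ext he, MulAut.one_apply]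
  exact (inv_mul_eq_one.1 hx').symm

end CfsgLib.PQFPF
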