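import Cfsg.Agent.Lib.PQFPF.Idem

/-!
# Counting lemma for coprime automorphisms of groups with scalar commutators

If `s` is an element of prime order `ℓ` without fixed vector normalizing a group whose commutators are
scalars, and `V` is the quotient by the scalars, then `|V| ≤ (ℓ - 1) ^ 2 |C_V(s)|`.
-/

namespace CfsgLib.PQFPF

open Module (finrank)

/-- The centralizer of an element of order `ℓ` without fixed vectors is large. -/
theorem sq_finrank_le_centralizer {k U : Type*} [Field k] [IsAlgClosed k] [AddCommGroup U]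
    [Module k U] [FiniteDimensional k U] (ℓ : ℕ) [Fact ℓ.Prime] (hℓk : (ℓ : k) ≠ 0)
    (s : (Module.End k U)ˣ) (hs : s ^ ℓ = 1)
    (htr : ∑ j ∈ Finset.range ℓ, ((s : Module.End k U) ^ j) = 0) :
    finrank k U ^ 2 ≤ (ℓ - 1) * finrank k
      (LinearMap.ker (LinearMap.mulLeft k (s : Module.End k U) -
        LinearMap.mulRight k (s : Module.End k U))) := by
  classical
  by_cases hs1 : s = 1
  · have h0 : (ℓ : k) • (1 : Module.End k U) = 0 := by
      subst hs1
      simpa [Nat.cast_smul_eq_nsmul k] using htr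
    have h1 : (1 : Module.End k U) = 0 := (smul_eq_zero.1 h0).resolve_left hℓk
    haveI : Subsingleton U := ⟨fun a b => by
      have ha : a = 0 := by simpa using LinearMap.congr_fun h1 a
      have hb : b = 0 := by simpa using LinearMap.congr_fun h1 b
      rw [ha, hb]⟩
    simp [Module.finrank_zero_of_subsingleton]
  have hord : orderOf s = ℓ := orderOf_eq_prime hs hs1
  let Z := ↥(Subgroup.zpowers s)
  letI : CommGroup Z :=
    { (inferInstance : Group ↥(Subgroup.zpowers s)) with
      mul_comm := fun a b => by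
        obtain ⟨i, hi⟩ := a.2
        obtain ⟨j, hj⟩ := b.2
        exact Subtype.ext (by
          show (a : (Module.End k U)ˣ) * b = (b : (Module.End k U)ˣ) * a
          rw [← hi, ← hj]; exact ((Commute.refl s).zpow_zpow i j).eq) }
  haveI : Finite Z := Nat.finite_of_card_ne_zero (by
    show Nat.card ↥(Subgroup.zpowers s) ≠ 0
    rw [Nat.card_zpowers, hord]; exact (Fact.out : ℓ.Prime).ne_zero)
  letI : Fintype Z := Fintype.ofFinite Z
  have hcardZ : Fintype.card Z = ℓ := by
    rw [← Nat.card_eq_fintype_card]; exact (Nat.card_zpowers s).trans hord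
  have hcard : (Fintype.card Z : k) ≠ 0 := by rwa [hcardZ]
  let ρ : Z →* Module.End k U := (Units.coeHom _).comp (Subgroup.zpowers s).subtype
  haveI := finite_dual (Z := Z) (k := k) hcard
  letI : Fintype (Z →* kˣ) := Fintype.ofFinite _
  let P : (Z →* kˣ) → Module.End k U := fun χ => idem ρ χ
  -- the trivial character does not occur
  have hP1 : P 1 = 0 := by
    have hsum : ∑ z : Z, ρ z = 0 := by
      have e : ∑ z : Z, ρ z = ∑ j : Fin (orderOf s), ((s : Module.End k U) ^ (j : ℕ)) :=
        (Fintype.sum_equiv (finEquivZPowers (isOfFinOrder_iff_pow_eq_one.2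
          ⟨ℓ, (Fact.out : ℓ.Prime).pos, hs⟩)) _ _ (fun j => by
            rw [finEquivZPowers_apply]
            exact (Units.val_pow_eq_pow_val _ _).symm)).symm
      rw [e, Fin.sum_univ_eq_sum_range (fun j => (s : Module.End k U) ^ j), hord, htr]
    simp [P, idem, hsum]
  let W : (Z →* kˣ) → Submodule k U := fun χ => LinearMap.range (P χ)
  have hfix : ∀ χ (u : W χ), P χ (u : U) = u := by
    rintro χ ⟨_, ⟨v, rfl⟩⟩
    show (P χ * P χ) v = P χ v
    simp only [P, idem_mul_self ρ hcard]
  have hkill : ∀ χ ψ (u : W χ), ψ ≠ χ → P ψ (u : U) = 0 := by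
    rintro χ ψ ⟨_, ⟨v, rfl⟩⟩ h
    show (P ψ * P χ) v = 0
    simp [P, idem_mul_of_ne ρ hcard h]
  -- dimensions add up
  let toPi : U →ₗ[k] (∀ χ, W χ) := LinearMap.pi fun χ => (P χ).rangeRestrict
  have hsumP : ∀ v, ∑ χ, P χ v = v := fun v => by
    rw [← LinearMap.sum_apply, show ∑ χ, P χ = 1 from sum_idem ρ hcard]; rfl
  have hbij : Function.Bijective toPi := by
    constructor
    · intro u v h
      rw [← hsumP u, ← hsumP v]
      exact Finset.sum_congr rfl fun χ _ => congrArg Subtype.val (congrFun h χ)
    · intro w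
      refine ⟨∑ χ, (w χ : U), funext fun χ => Subtype.ext ?_⟩
      show P χ (∑ ψ, (w ψ : U)) = w χ
      rw [map_sum, Finset.sum_eq_single χ (fun ψ _ h => hkill ψ χ _ (Ne.symm h))
        (fun h => absurd (Finset.mem_univ _) h), hfix]
  have hdim : finrank k U = ∑ χ, finrank k (W χ) := by
    rw [(LinearEquiv.ofBijective toPi hbij).finrank_eq, Module.finrank_pi_fintype]
  -- block diagonal maps centralize `s`
  set C := LinearMap.ker (LinearMap.mulLeft k (s : Module.End k U) -
        LinearMap.mulRight k (s : Module.End k U)) with hC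
  let Φ : (∀ χ, Module.End k (W χ)) →ₗ[k] Module.End k U :=
    { toFun := fun y => ∑ χ, (W χ).subtype ∘ₗ (y χ) ∘ₗ (P χ).rangeRestrict
      map_add' := fun y y' => by
        simp only [Pi.add_apply, LinearMap.add_comp, LinearMap.comp_add, Finset.sum_add_distrib]
      map_smul' := fun a y => by
        simp only [Pi.smul_apply, LinearMap.smul_comp, LinearMap.comp_smul, Finset.smul_sum,
          RingHom.id_apply] }
  let g0 : Z := ⟨s, Subgroup.mem_zpowers s⟩
  have hsP : ∀ χ v, (s : Module.End k U) (P χ v) = ((χ g0 : kˣ) : k) • P χ v := fun χ v => by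
    show ((s : Module.End k U) * P χ) v = _
    rw [show (s : Module.End k U) * P χ = ((χ g0 : kˣ) : k) • P χ from mul_idem ρ g0 χ]; rfl
  have hPs : ∀ χ v, P χ ((s : Module.End k U) v) = ((χ g0 : kˣ) : k) • P χ v := fun χ v => by
    show (P χ * (s : Module.End k U)) v = _
    rw [← (commute_idem ρ (g := (s : Module.End k U)) (fun z => by
      show ρ g0 * ρ z = ρ z * ρ g0
      rw [← map_mul, ← map_mul, mul_comm]) χ).eq]
    exact hsP χ v
  have hΦC : ∀ y, Φ y ∈ C := by
    intro y
    rw [hC, LinearMap.mem_ker, LinearMap.sub_apply, sub_eq_zero]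
    apply LinearMap.ext
    intro v
    simp only [Φ, LinearMap.mulLeft_apply, LinearMap.mulRight_apply, Module.End.mul_apply,
      LinearMap.coe_mk, AddHom.coe_mk, LinearMap.sum_apply, map_sum, LinearMap.comp_apply,
      Submodule.subtype_apply]
    refine Finset.sum_congr rfl fun χ _ => ?_
    have e1 : (P χ).rangeRestrict ((s : Module.End k U) v) =
        ((χ g0 : kˣ) : k) • (P χ).rangeRestrict v := Subtype.ext (hPs χ v)
    rw [e1, map_smul, Submodule.coe_smul]
    obtain ⟨w, hw⟩ := (y χ ((P χ).rangeRestrict v)).2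
    rw [← hw]
    exact hsP χ w
  have hΦinj : Function.Injective Φ := by
    intro y y' h
    funext χ
    apply LinearMap.ext
    intro u
    have h' := LinearMap.congr_fun h (u : U)
    simp only [Φ, LinearMap.coe_mk, AddHom.coe_mk, LinearMap.sum_apply, LinearMap.comp_apply,
      Submodule.subtype_apply] at h'
    have e : ∀ z : ∀ ψ, Module.End k (W ψ),
        ∑ ψ, ((z ψ ((P ψ).rangeRestrict (u : U)) : W ψ) : U) = (z χ u : U) := by
      intro z
      rw [Finset.sum_eq_single χ]
      · rw [show (P χ).rangeRestrict (u : U) = u from Subtype.ext (hfix χ u)]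
      · intro ψ _ hψ
        rw [show (P ψ).rangeRestrict (u : U) = 0 from Subtype.ext (hkill χ ψ u hψ), map_zero]
        rfl
      · exact fun h => absurd (Finset.mem_univ _) h
    rw [e, e] at h'
    exact Subtype.ext h'
  have hΦrk : ∑ χ, finrank k (W χ) ^ 2 ≤ finrank k C := by
    have h := LinearMap.finrank_le_finrank_of_injective
      (f := Φ.codRestrict C hΦC) (fun a b hab => hΦinj (congrArg Subtype.val hab))
    rw [Module.finrank_pi_fintype] at h
    simpa [Module.finrank_linearMap, pow_two] using h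
  -- Cauchy–Schwarz
  have hW1 : finrank k (W 1) = 0 := by
    show finrank k (LinearMap.range (P 1)) = 0
    rw [hP1, LinearMap.range_zero, finrank_bot]
  have hsplit : ∀ f : (Z →* kˣ) → ℕ, f 1 = 0 → ∑ χ, f χ = ∑ χ ∈ Finset.univ.erase 1, f χ :=
    fun f hf => by rw [← Finset.add_sum_erase _ f (Finset.mem_univ 1), hf, zero_add]
  rw [hdim, hsplit _ hW1]
  refine le_trans sq_sum_le_card_mul_sum_sq ?_
  refine Nat.mul_le_mul ?_ ((le_of_eq (hsplit (fun χ => finrank k (W χ) ^ 2)
    (by simp [hW1])).symm).trans hΦrk)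
  rw [Finset.card_erase_of_mem (Finset.mem_univ _), Finset.card_univ,
    ← Nat.card_eq_fintype_card, card_dual hcard, hcardZ]
  simp

/-- The counting lemma. -/
theorem card_le_mul_card_fixed {Q V k U : Type*} [Group Q] [CommGroup V] [Fintype V]
    [Field k] [IsAlgClosed k] [AddCommGroup U] [Module k U] [FiniteDimensional k U] [Nontrivial U]
    (hV : (Fintype.card V : k) ≠ 0) (ℓ : ℕ) [Fact ℓ.Prime] (hℓk : (ℓ : k) ≠ 0)
    (π : Q →* Module.End k U) (ν : Q →* V) (hν : Function.Surjective ν)
    (hker : ∀ x, ν x = 1 → ∃ a : k, π x = a • 1)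
    (β : V →* V →* kˣ) (hβ : Function.Injective β)
    (hrel : ∀ x y, π x * π y = ((β (ν x) (ν y) : kˣ) : k) • (π y * π x))
    (σ : Q → Q) (τ : MulAut V) (hστ : ∀ x, ν (σ x) = τ (ν x))
    (s : (Module.End k U)ˣ) (hs : s ^ ℓ = 1) (hτ : τ ^ ℓ = 1)
    (hconj : ∀ x, (s : Module.End k U) * π x = π (σ x) * s)
    (htr : ∑ j ∈ Finset.range ℓ, ((s : Module.End k U) ^ j) = 0) :
    Fintype.card V ≤ (ℓ - 1) ^ 2 * Nat.card {v : V // τ v = v} := by
  classical
  have hℓ : ℓ.Prime := Fact.out
  by_cases hτ1 : τ = 1
  · subst hτ1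
    rw [Nat.card_congr (Equiv.subtypeUnivEquiv (fun v : V => show (1 : MulAut V) v = v from rfl)),
      Nat.card_eq_fintype_card]
    exact Nat.le_mul_of_pos_left _ (pow_pos (Nat.sub_pos_of_lt hℓ.one_lt) 2)
  -- properties of the pairing
  have hπinv : ∀ x, π x * π x⁻¹ = 1 := fun x => by rw [← map_mul, mul_inv_cancel, map_one]
  have hcancel : ∀ (a b : k) x y, a • (π x * π y) = b • (π x * π y) → a = b := by
    intro a b x y h
    have h' : a • (1 : Module.End k U) = b • 1 := by
      have := congrArg (fun r => r * (π y⁻¹ * π x⁻¹)) h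
      simpa only [smul_mul_assoc, mul_assoc, ← mul_assoc (π y) (π y⁻¹), hπinv, one_mul] using this
    obtain ⟨u, hu⟩ := exists_ne (0 : U)
    have h'' : a • u = b • u := by simpa using LinearMap.congr_fun h' u
    exact smul_left_injective k hu h''
  have hanti : ∀ v w, β v w = (β w v)⁻¹ := by
    intro v w
    obtain ⟨x, rfl⟩ := hν v
    obtain ⟨y, rfl⟩ := hν w
    have h := hrel x y
    rw [hrel y x, smul_smul] at h
    conv_lhs at h => rw [← one_smul k (π x * π y)]
    exact eq_inv_of_mul_eq_one_left (Units.ext (hcancel _ _ x y h).symm)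
  have hinvar : ∀ v w, β (τ v) (τ w) = β v w := by
    intro v w
    obtain ⟨x, rfl⟩ := hν v
    obtain ⟨y, rfl⟩ := hν w
    have h1 : (s : Module.End k U) * (π x * π y) = π (σ x) * π (σ y) * s := by
      rw [← mul_assoc, hconj, mul_assoc, hconj, ← mul_assoc]
    have h1' : (s : Module.End k U) * (π y * π x) = π (σ y) * π (σ x) * s := by
      rw [← mul_assoc, hconj, mul_assoc, hconj, ← mul_assoc]
    rw [hrel x y, hrel (σ x) (σ y), mul_smul_comm, smul_mul_assoc, h1', hστ, hστ] at h1
    have h2 := congrArg (fun r => r * ((s⁻¹ : (Module.End k U)ˣ) : Module.End k U)) h1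
    simp only [smul_mul_assoc, mul_assoc, Units.mul_inv, mul_one] at h2
    exact (Units.ext (hcancel _ _ _ _ h2)).symm
  -- conjugation action on endomorphisms
  let AdQ : Q →* Module.End k (Module.End k U) :=
    { toFun := fun x => LinearMap.mulLeft k (π x) ∘ₗ LinearMap.mulRight k (π x⁻¹)
      map_one' := by apply LinearMap.ext; intro r; simp
      map_mul' := fun x y => by
        apply LinearMap.ext; intro r
        simp [map_mul, mul_assoc] }
  have hAdker : ν.ker ≤ AdQ.toHomUnits.ker := by
    intro x hx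
    obtain ⟨a, ha⟩ := hker x hx
    rw [MonoidHom.mem_ker]
    apply Units.ext
    apply LinearMap.ext
    intro r
    show π x * (r * π x⁻¹) = r
    calc π x * (r * π x⁻¹) = r * (π x * π x⁻¹) := by
          rw [ha, smul_mul_assoc, one_mul, smul_mul_assoc, one_mul, mul_smul_comm]
      _ = r := by rw [hπinv, mul_one]
  let AdV : V →* Module.End k (Module.End k U) :=
    (Units.coeHom _).comp (ν.liftOfSurjective hν ⟨AdQ.toHomUnits, hAdker⟩)
  have hAd : ∀ x r, AdV (ν x) r = π x * (r * π x⁻¹) := fun x r => by
    simp only [AdV, MonoidHom.comp_apply, MonoidHom.liftOfRightInverse_comp_apply,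
      Units.coeHom_apply]
    rfl
  haveI := finite_dual (Z := V) (k := k) hV
  letI : Fintype (V →* kˣ) := Fintype.ofFinite _
  let e : (V →* kˣ) → Module.End k (Module.End k U) := fun μ => idem AdV μ
  let W : (V →* kˣ) → Submodule k (Module.End k U) := fun μ => LinearMap.range (e μ)
  let δ : V → (V →* kˣ) := fun w => (β w)⁻¹
  have hδinj : Function.Injective δ := fun a b h => hβ (inv_injective h)
  have hδbij : Function.Bijective δ := (Fintype.bijective_iff_injective_and_card δ).2
    ⟨hδinj, by rw [← Nat.card_eq_fintype_card (α := V →* kˣ), card_dual hV]⟩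
  -- components all have the same dimension
  have hcomp : ∀ μ, finrank k (W μ) = finrank k (W 1) := by
    intro μ
    obtain ⟨w, rfl⟩ := hδbij.2 μ
    obtain ⟨x, rfl⟩ := hν w
    let g : Module.End k U ≃ₗ[k] Module.End k U :=
      LinearEquiv.ofLinearMap (LinearMap.mulLeft k (π x)) (LinearMap.mulLeft k (π x⁻¹))
        (by apply LinearMap.ext; intro r; simp [← mul_assoc, hπinv])
        (by
          apply LinearMap.ext; intro r
          simp [← mul_assoc, ← map_mul])
    have hswap : ∀ v, (g : Module.End k (Module.End k U)) * AdV v =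
        (((δ (ν x)) v)⁻¹ : kˣ).val • (AdV v * (g : Module.End k (Module.End k U))) := by
      intro v
      obtain ⟨y, rfl⟩ := hν v
      apply LinearMap.ext; intro r
      show π x * AdV (ν y) r = (((δ (ν x)) (ν y))⁻¹ : kˣ).val • AdV (ν y) (π x * r)
      rw [hAd, hAd]
      have hyx := hrel x y
      simp only [δ, MonoidHom.inv_apply, inv_inv]
      calc π x * (π y * (r * π y⁻¹)) = (π x * π y) * (r * π y⁻¹) := by rw [mul_assoc]
        _ = _ := by rw [hyx]; simp only [smul_mul_assoc, mul_assoc]
    have hge : (g : Module.End k (Module.End k U)) * e 1 =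
        e (δ (ν x)) * (g : Module.End k (Module.End k U)) := by
      simp only [e, idem, mul_smul_comm, smul_mul_assoc, Finset.mul_sum, Finset.sum_mul, hswap,
        smul_smul]
      congr 1
      refine Finset.sum_congr rfl fun v _ => ?_
      simp
    have hmap : W (δ (ν x)) = (W 1).map (g : Module.End k U →ₗ[k] Module.End k U) := by
      apply le_antisymm
      · rintro _ ⟨r, rfl⟩
        refine ⟨e 1 (g.symm r), ⟨_, rfl⟩, ?_⟩
        show ((g : Module.End k (Module.End k U)) * e 1) (g.symm r) = _
        rw [hge]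
        show e _ (g (g.symm r)) = _
        rw [g.apply_symm_apply]
      · rintro _ ⟨_, ⟨r, rfl⟩, rfl⟩
        refine ⟨g r, ?_⟩
        show (e (δ (ν x)) * (g : Module.End k (Module.End k U))) r = _
        rw [← hge]; rfl
    rw [hmap, LinearEquiv.finrank_map_eq]
  -- total dimension
  have hfixE : ∀ μ (u : W μ), e μ (u : Module.End k U) = u := by
    rintro μ ⟨_, ⟨v, rfl⟩⟩
    show (e μ * e μ) v = e μ v
    simp only [e, idem_mul_self AdV hV]
  have hsumE : ∀ r, ∑ μ, e μ r = r := fun r => by
    rw [← LinearMap.sum_apply, show ∑ μ, e μ = 1 from sum_idem AdV hV]; rfl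
  have htot : finrank k U ^ 2 = Fintype.card V * finrank k (W 1) := by
    let toPi : Module.End k U →ₗ[k] (∀ μ, W μ) := LinearMap.pi fun μ => (e μ).rangeRestrict
    have hbij : Function.Bijective toPi := by
      constructor
      · intro u v h
        rw [← hsumE u, ← hsumE v]
        exact Finset.sum_congr rfl fun χ _ => congrArg Subtype.val (congrFun h χ)
      · intro w
        refine ⟨∑ χ, (w χ : Module.End k U), funext fun χ => Subtype.ext ?_⟩
        show e χ (∑ ψ, (w ψ : Module.End k U)) = w χ
        rw [map_sum, Finset.sum_eq_single χ ?_ (fun h => absurd (Finset.mem_univ _) h), hfixE]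
        intro ψ _ hψ
        obtain ⟨v, hv⟩ := (w ψ).2
        rw [← hv]
        show (e χ * e ψ) v = 0
        simp [e, idem_mul_of_ne AdV hV (Ne.symm hψ)]
    have h := (LinearEquiv.ofBijective toPi hbij).finrank_eq
    rw [Module.finrank_linearMap, Module.finrank_pi_fintype] at h
    simp only [hcomp, Finset.sum_const, Finset.card_univ, smul_eq_mul] at h
    rw [pow_two, h, ← Nat.card_eq_fintype_card (α := V →* kˣ), card_dual hV]
  -- the permutation of the components induced by `s`
  let S : Module.End k (Module.End k U) :=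
    LinearMap.mulLeft k (s : Module.End k U) ∘ₗ
      LinearMap.mulRight k ((s⁻¹ : (Module.End k U)ˣ) : Module.End k U)
  have hSAd : ∀ v, S * AdV v = AdV (τ v) * S := by
    intro v
    obtain ⟨x, rfl⟩ := hν v
    apply LinearMap.ext; intro r
    show (s : Module.End k U) * (AdV (ν x) r * ((s⁻¹ : (Module.End k U)ˣ) : Module.End k U)) =
      AdV (τ (ν x)) ((s : Module.End k U) * (r * ((s⁻¹ : (Module.End k U)ˣ) : Module.End k U)))
    rw [← hστ, hAd, hAd]
    have h2 : ((s⁻¹ : (Module.End k U)ˣ) : Module.End k U) * π (σ x)⁻¹ =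
        π x⁻¹ * ((s⁻¹ : (Module.End k U)ˣ) : Module.End k U) := by
      rw [Units.inv_mul_eq_iff_eq_mul, ← mul_assoc, Units.eq_mul_inv_iff_mul_eq]
      calc π (σ x)⁻¹ * (s : Module.End k U)
          = π (σ x)⁻¹ * ((s : Module.End k U) * (π x * π x⁻¹)) := by rw [hπinv, mul_one]
        _ = π (σ x)⁻¹ * π (σ x) * ((s : Module.End k U) * π x⁻¹) := by
            rw [← mul_assoc (s : Module.End k U), hconj]; simp only [mul_assoc]
        _ = _ := by rw [← map_mul, inv_mul_cancel, map_one, one_mul]
    calc (s : Module.End k U) * (π x * (r * π x⁻¹) *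
            ((s⁻¹ : (Module.End k U)ˣ) : Module.End k U))
        = (s : Module.End k U) * π x * (r * (π x⁻¹ *
            ((s⁻¹ : (Module.End k U)ˣ) : Module.End k U))) := by simp only [mul_assoc]
      _ = π (σ x) * ((s : Module.End k U) * (r * ((s⁻¹ : (Module.End k U)ˣ) : Module.End k U)) *
            π (σ x)⁻¹) := by rw [hconj, ← h2]; simp only [mul_assoc]
  let T : Equiv.Perm (V →* kˣ) :=
    { toFun := fun μ => μ.comp τ.symm.toMonoidHom
      invFun := fun μ => μ.comp τ.toMonoidHom
      left_inv := fun μ => MonoidHom.ext fun v => by simp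
      right_inv := fun μ => MonoidHom.ext fun v => by simp }
  have hSe : ∀ μ, S * e μ = e (T μ) * S := fun μ => semiconj_idem AdV τ hSAd μ
  have hTδ : ∀ w, T (δ w) = δ (τ w) := by
    intro w
    ext v
    simp only [T, δ, Equiv.coe_fn_mk, MonoidHom.comp_apply, MonoidHom.inv_apply,
      MulEquiv.coe_toMonoidHom]
    rw [← hinvar w, MulEquiv.apply_symm_apply]
  have hfixcard : Nat.card {μ : V →* kˣ // T μ = μ} = Nat.card {v : V // τ v = v} := by
    refine (Nat.card_congr (Equiv.subtypeEquiv (Equiv.ofBijective δ hδbij) (fun v => ?_))).symm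
    show τ v = v ↔ T (δ v) = δ v
    rw [hTδ, hδinj.eq_iff]
  have hTpow : T ^ ℓ = 1 := by
    apply Equiv.ext
    intro μ
    obtain ⟨w, rfl⟩ := hδbij.2 μ
    have key : ∀ n : ℕ, (T ^ n) (δ w) = δ ((τ ^ n) w) := by
      intro n
      induction n with
      | zero => simp
      | succ n ih => rw [pow_succ', pow_succ', Equiv.Perm.mul_apply, ih, hTδ, MulAut.mul_apply]
    rw [key, hτ]; simp
  have hT1 : T ≠ 1 := fun h => hτ1 (MulEquiv.ext fun w => hδinj (by
    rw [← hTδ, h]; rfl))
  have hordT : orderOf T = ℓ := orderOf_eq_prime hTpow hT1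
  let O := MulAction.orbitRel.Quotient (Subgroup.zpowers T) (V →* kˣ)
  letI : Fintype O := Fintype.ofFinite O
  have horb : ℓ * Fintype.card O =
      Fintype.card V + (ℓ - 1) * Nat.card {v : V // τ v = v} := by
    have hB := MulAction.sum_card_fixedBy_eq_card_orbits_mul_card_group
      (Subgroup.zpowers T) (V →* kˣ)
    rw [← Nat.card_eq_fintype_card (α := ↥(Subgroup.zpowers T)), Nat.card_zpowers, hordT,
      Finset.sum_eq_add_sum_sdiff_singleton_of_mem (Finset.mem_univ (1 : ↥(Subgroup.zpowers T)))] at hB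
    have h1 : Fintype.card (MulAction.fixedBy (V →* kˣ) (1 : ↥(Subgroup.zpowers T))) =
        Fintype.card V := by
      rw [← Nat.card_eq_fintype_card, ← card_dual (k := k) hV]
      exact Nat.card_congr (Equiv.subtypeUnivEquiv (fun μ => rfl))
    have h2 : ∀ g ∈ (Finset.univ : Finset ↥(Subgroup.zpowers T)) \ {1},
        Fintype.card (MulAction.fixedBy (V →* kˣ) g) = Nat.card {v : V // τ v = v} := by
      intro g hg
      rw [Finset.mem_sdiff, Finset.mem_singleton] at hg
      rw [← hfixcard, ← Nat.card_eq_fintype_card]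
      refine Nat.card_congr (Equiv.subtypeEquivRight fun μ => ?_)
      show (g : Equiv.Perm (V →* kˣ)) μ = μ ↔ T μ = μ
      obtain ⟨i, hi⟩ := mem_powers_iff_mem_zpowers.2 g.2
      rw [← hi]
      refine ⟨fun h => ?_, fun h => ?_⟩
      · have hne : (T ^ i) ≠ 1 := fun h1' => hg.2 (Subtype.ext (hi.symm.trans h1'))
        have hcop : i.Coprime ℓ := by
          rw [Nat.coprime_comm, hℓ.coprime_iff_not_dvd]
          intro hd
          exact hne (orderOf_dvd_iff_pow_eq_one.1 (hordT ▸ hd))
        obtain ⟨j, -, hj⟩ := Nat.exists_mul_mod_eq_of_coprime 1 hcop hℓ.ne_zero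
        have hTij : (T ^ i) ^ j = T := by
          rw [← pow_mul]
          conv_rhs => rw [← pow_one T]
          exact pow_eq_pow_iff_modEq.2 (by rw [hordT]; exact hj)
        rw [← hTij]
        exact Function.IsFixedPt.perm_pow h j
      · exact Function.IsFixedPt.perm_pow h i
    rw [h1, Finset.sum_congr rfl h2, Finset.sum_const, Finset.card_univ_sdiff, Finset.card_singleton,
      ← Nat.card_eq_fintype_card (α := ↥(Subgroup.zpowers T)), Nat.card_zpowers, hordT,
      smul_eq_mul] at hB
    rw [hB, mul_comm]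
  set C := LinearMap.ker (LinearMap.mulLeft k (s : Module.End k U) -
        LinearMap.mulRight k (s : Module.End k U)) with hC
  have hCdim : finrank k C ≤ Fintype.card O * finrank k (W 1) := by
    let F : C →ₗ[k] (∀ o : O, W (Quotient.out o)) :=
      LinearMap.pi fun o => (e (Quotient.out o)).rangeRestrict ∘ₗ C.subtype
    have hF : Function.Injective F := by
      rw [← LinearMap.ker_eq_bot, LinearMap.ker_eq_bot']
      intro y hy
      have hyC : (s : Module.End k U) * (y : Module.End k U) = (y : Module.End k U) * s := by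
        have h : (LinearMap.mulLeft k (s : Module.End k U) -
            LinearMap.mulRight k (s : Module.End k U)) (y : Module.End k U) = 0 := y.2
        rw [LinearMap.sub_apply, sub_eq_zero] at h
        exact h
      have hSy : S (y : Module.End k U) = y := by
        show (s : Module.End k U) * ((y : Module.End k U) * _) = _
        rw [← mul_assoc, hyC, mul_assoc, Units.mul_inv, mul_one]
      have hstep : ∀ μ, e μ (y : Module.End k U) = 0 → e (T μ) (y : Module.End k U) = 0 := by
        intro μ h
        rw [← hSy]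
        show (e (T μ) * S) (y : Module.End k U) = 0
        rw [← hSe]
        show S (e μ (y : Module.End k U)) = 0
        rw [h, map_zero]
      have hpow : ∀ (i : ℕ) μ, e μ (y : Module.End k U) = 0 →
          e ((T ^ i) μ) (y : Module.End k U) = 0 := by
        intro i
        induction i with
        | zero => simp
        | succ i ih => intro μ h; rw [pow_succ', Equiv.Perm.mul_apply]; exact hstep _ (ih μ h)
      apply Subtype.ext
      rw [← hsumE (y : Module.End k U)]
      refine Finset.sum_eq_zero fun μ _ => ?_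
      have hrel' : μ ∈ MulAction.orbit (Subgroup.zpowers T)
          (Quotient.out (Quotient.mk'' μ : O)) := by
        have h := (Quotient.out_eq (Quotient.mk'' μ : O))
        exact MulAction.orbitRel_apply.1 (Quotient.exact h.symm)
      obtain ⟨g, hg⟩ := hrel'
      obtain ⟨i, hi⟩ := mem_powers_iff_mem_zpowers.2 g.2
      rw [← hg]
      show e ((g : Equiv.Perm (V →* kˣ)) _) (y : Module.End k U) = 0
      rw [← hi]
      exact hpow i _ (congrArg Subtype.val (congrFun hy _))
    have h := LinearMap.finrank_le_finrank_of_injective hF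
    rw [Module.finrank_pi_fintype] at h
    simpa [hcomp] using h
  -- conclusion
  have h1 := sq_finrank_le_centralizer ℓ hℓk s hs htr
  rw [← hC, htot] at h1
  have hd : 0 < finrank k (W 1) := by
    rcases Nat.eq_zero_or_pos (finrank k (W 1)) with h | h
    · rw [h, mul_zero] at htot
      exact absurd (pow_eq_zero_iff two_ne_zero |>.1 htot) Module.finrank_pos.ne'
    · exact h
  have h3 : Fintype.card V * finrank k (W 1) ≤ (ℓ - 1) * Fintype.card O * finrank k (W 1) := by
    rw [mul_assoc]; exact h1.trans (Nat.mul_le_mul_left _ hCdim)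
  have h4 : Fintype.card V ≤ (ℓ - 1) * Fintype.card O := Nat.le_of_mul_le_mul_right h3 hd
  have h5 : ℓ * Fintype.card V ≤ (ℓ - 1) * (Fintype.card V + (ℓ - 1) * Nat.card {v : V // τ v = v}) := by
    rw [← horb, mul_left_comm]; exact Nat.mul_le_mul_left ℓ h4
  obtain ⟨l, hl⟩ : ∃ l, ℓ = l + 1 := ⟨ℓ - 1, (Nat.succ_pred_eq_of_pos hℓ.pos).symm⟩
  rw [hl, Nat.add_sub_cancel] at h5 ⊢
  nlinarith

end CfsgLib.PQFPF
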