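import Mathlib

/-!
# Character idempotents of a finite abelian group acting in an algebra
-/

namespace CfsgLib.PQFPF

lemma sum_monoidHom_eq_zero {Z k : Type*} [Group Z] [Fintype Z] [Field k] (f : Z →* kˣ)
    (hf : f ≠ 1) : ∑ z, (f z : k) = 0 := by
  obtain ⟨w, hw⟩ : ∃ w, f w ≠ 1 := by
    by_contra h; exact hf (MonoidHom.ext fun z => not_not.1 fun hz => h ⟨z, hz⟩)
  have h : (f w : k) * ∑ z, (f z : k) = ∑ z, (f z : k) := by
    rw [Finset.mul_sum]
    exact Fintype.sum_equiv (Equiv.mulLeft w) _ _ (fun z => by simp)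
  have h' : ((f w : k) - 1) * ∑ z, (f z : k) = 0 := by rw [sub_mul, one_mul, h, sub_self]
  rcases mul_eq_zero.1 h' with h'' | h''
  · exact absurd (Units.ext (sub_eq_zero.1 h'')) hw
  · exact h''

variable {Z k R : Type*} [CommGroup Z] [Fintype Z] [Field k] [IsAlgClosed k] [Ring R] [Algebra k R]

/-- The idempotent attached to a linear character. -/
noncomputable def idem (ρ : Z →* R) (χ : Z →* kˣ) : R :=
  (Fintype.card Z : k)⁻¹ • ∑ z, ((χ z⁻¹ : kˣ) : k) • ρ z

variable (ρ : Z →* R)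

omit [IsAlgClosed k] in
lemma mul_idem (z : Z) (χ : Z →* kˣ) : ρ z * idem ρ χ = ((χ z : kˣ) : k) • idem ρ χ := by
  simp only [idem, mul_smul_comm, Finset.mul_sum, Finset.smul_sum, smul_smul, ← map_mul]
  refine Fintype.sum_equiv (Equiv.mulLeft z) _ _ (fun w => ?_)
  simp only [Equiv.coe_mulLeft, mul_inv_rev, map_mul, map_inv, Units.val_mul]
  congr 1
  field_simp
  simp

omit [IsAlgClosed k] in
lemma commute_idem {g : R} (hg : ∀ z, Commute g (ρ z)) (χ : Z →* kˣ) : Commute g (idem ρ χ) := by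
  unfold idem Commute SemiconjBy
  simp only [mul_smul_comm, smul_mul_assoc, Finset.mul_sum, Finset.sum_mul, (hg _).eq]

omit [IsAlgClosed k] in
/-- Transport by a semi-linear element. -/
lemma semiconj_idem {g : R} (f : MulAut Z) (hg : ∀ z, g * ρ z = ρ (f z) * g) (χ : Z →* kˣ) :
    g * idem ρ χ = idem ρ (χ.comp f.symm.toMonoidHom) * g := by
  simp only [idem, mul_smul_comm, smul_mul_assoc, Finset.mul_sum, Finset.sum_mul, hg]
  congr 1
  refine Fintype.sum_equiv f.toEquiv _ _ (fun z => ?_)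
  simp

lemma idem_mul_idem [DecidableEq (Z →* kˣ)] (hcard : (Fintype.card Z : k) ≠ 0) (χ ψ : Z →* kˣ) :
    idem ρ χ * idem ρ ψ = if χ = ψ then idem ρ ψ else 0 := by
  have h1 : idem ρ χ * idem ρ ψ =
      ((Fintype.card Z : k)⁻¹ * ∑ z, (((χ⁻¹ * ψ) z : kˣ) : k)) • idem ρ ψ := by
    conv_lhs => arg 1; rw [idem]
    rw [smul_mul_assoc, Finset.sum_mul, mul_smul, Finset.sum_smul]
    congr 1
    refine Finset.sum_congr rfl (fun z _ => ?_)
    rw [smul_mul_assoc, mul_idem, smul_smul]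
    simp
  rw [h1]
  by_cases h : χ = ψ
  · subst h
    rw [if_pos rfl, show χ⁻¹ * χ = 1 from inv_mul_cancel χ]
    simp [inv_mul_cancel₀ hcard]
  · rw [if_neg h, sum_monoidHom_eq_zero _ (fun h' => h (inv_mul_eq_one.1 h')), mul_zero, zero_smul]

lemma idem_mul_self (hcard : (Fintype.card Z : k) ≠ 0) (χ : Z →* kˣ) :
    idem ρ χ * idem ρ χ = idem ρ χ := by
  classical
  rw [idem_mul_idem ρ hcard, if_pos rfl]

lemma idem_mul_of_ne (hcard : (Fintype.card Z : k) ≠ 0) {χ ψ : Z →* kˣ} (h : χ ≠ ψ) :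
    idem ρ χ * idem ρ ψ = 0 := by
  classical
  rw [idem_mul_idem ρ hcard, if_neg h]

omit [IsAlgClosed k] in
lemma neZero_exponent (hcard : (Fintype.card Z : k) ≠ 0) : NeZero (Monoid.exponent Z : k) := by
  refine ⟨fun h => hcard ?_⟩
  obtain ⟨c, hc⟩ := Group.exponent_dvd_nat_card (G := Z)
  rw [← Nat.card_eq_fintype_card, hc, Nat.cast_mul, h, zero_mul]

lemma card_dual (hcard : (Fintype.card Z : k) ≠ 0) : Nat.card (Z →* kˣ) = Fintype.card Z := by
  haveI := neZero_exponent hcard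
  rw [CommGroup.card_monoidHom_of_hasEnoughRootsOfUnity Z k, Nat.card_eq_fintype_card]

lemma finite_dual (hcard : (Fintype.card Z : k) ≠ 0) : Finite (Z →* kˣ) :=
  Nat.finite_of_card_ne_zero (by rw [card_dual hcard]; exact Fintype.card_ne_zero)

lemma exists_apply_ne_one (hcard : (Fintype.card Z : k) ≠ 0) {z : Z} (hz : z ≠ 1) :
    ∃ χ : Z →* kˣ, χ z ≠ 1 := by
  haveI := neZero_exponent hcard
  exact CommGroup.exists_apply_ne_one_of_hasEnoughRootsOfUnity Z k hz

lemma sum_idem [Fintype (Z →* kˣ)] (hcard : (Fintype.card Z : k) ≠ 0) :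
    ∑ χ : Z →* kˣ, idem ρ χ = 1 := by
  classical
  have h0 : ∀ z : Z, ∑ χ : Z →* kˣ, ((χ z⁻¹ : kˣ) : k) =
      if z = 1 then (Fintype.card Z : k) else 0 := by
    intro z
    by_cases hz : z = 1
    · rw [if_pos hz, ← card_dual hcard, Nat.card_eq_fintype_card]
      simp [hz]
    · rw [if_neg hz]
      let ev : (Z →* kˣ) →* kˣ :=
        { toFun := fun χ => χ z⁻¹, map_one' := rfl, map_mul' := fun _ _ => rfl }
      apply sum_monoidHom_eq_zero ev
      obtain ⟨f, hf⟩ := exists_apply_ne_one hcard (inv_ne_one.2 hz)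
      exact fun h => hf (DFunLike.congr_fun h f)
  simp only [idem, ← Finset.smul_sum]
  rw [Finset.sum_comm]
  simp only [← Finset.sum_smul, h0, ite_smul, zero_smul, Finset.sum_ite_eq', Finset.mem_univ,
    if_true, map_one, smul_smul, inv_mul_cancel₀ hcard, one_smul]

/-- If only the trivial character occurs then the group acts trivially. -/
lemma eq_one_of_idem (hcard : (Fintype.card Z : k) ≠ 0)
    (h : ∀ χ : Z →* kˣ, χ ≠ 1 → idem (k := k) ρ χ = 0) (z : Z) : ρ z = 1 := by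
  classical
  haveI := finite_dual (Z := Z) (k := k) hcard
  haveI := Fintype.ofFinite (Z →* kˣ)
  have h1 : idem ρ (1 : Z →* kˣ) = 1 := by
    rw [← sum_idem ρ hcard]; exact (Fintype.sum_eq_single 1 h).symm
  simpa [h1] using (mul_idem (k := k) ρ z 1)

end CfsgLib.PQFPF
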