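import Cfsg.Agent.Lib.PQFPF.Core
import Cfsg.Agent.Lib.Coprime.Commutator
import Cfsg.Agent.Lib.Coprime.Action

/-!
# Reduction to the minimal configuration
-/

open scoped commutatorElement

namespace CfsgLib.PQFPF

/-- An invariant Sylow subgroup for a coprime action by automorphisms. -/
theorem exists_invariant_sylow_aut {K A : Type*} [Group K] [Finite K] [Group.IsSolvable K]
    [Group A] [Finite A] (φ : A →* MulAut K) (hcop : (Nat.card A).Coprime (Nat.card K))
    (t : ℕ) [Fact t.Prime] : ∃ T : Sylow t K, ∀ a, ∀ x ∈ (T : Subgroup K), φ a x ∈ (T : Subgroup K) := by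
  classical
  haveI : Finite (K ⋊[φ] A) := Finite.of_equiv _ SemidirectProduct.equivProd.symm
  let iK : K →* K ⋊[φ] A := SemidirectProduct.inl
  let iA : A →* K ⋊[φ] A := SemidirectProduct.inr
  have hcK : Nat.card ↥iK.range = Nat.card K :=
    (Nat.card_congr (iK.ofInjective SemidirectProduct.inl_injective).toEquiv).symm
  have hcA : Nat.card ↥iA.range = Nat.card A :=
    (Nat.card_congr (iA.ofInjective SemidirectProduct.inr_injective).toEquiv).symm
  haveI : Group.IsSolvable ↥iK.range := solvable_of_surjective iK.rangeRestrict_surjective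
  have hAK : iA.range ≤ Subgroup.normalizer (iK.range : Set (K ⋊[φ] A)) := by
    refine Subgroup.le_normalizer_iff.2 ?_
    rintro _ ⟨a, rfl⟩ _ ⟨x, rfl⟩
    exact ⟨φ a x, by
      show SemidirectProduct.inl (φ a x) = _
      rw [SemidirectProduct.inl_aut, ← map_inv]⟩
  obtain ⟨P, hP⟩ := Coprime.exists_invariant_sylow iA.range iK.range hAK
    (by rw [hcK, hcA]; exact hcop) (Or.inr inferInstance) t
  let P' : Subgroup (K ⋊[φ] A) := (P : Subgroup ↥iK.range).map iK.range.subtype
  have hP' : P' ≤ iK.range := Subgroup.map_subtype_le _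
  let T0 : Subgroup K := P'.comap iK
  have hcard : Nat.card ↥T0 = t ^ (Nat.card K).factorization t := by
    have h1 : T0.map iK = P' := Subgroup.map_comap_eq_self hP'
    rw [← Subgroup.card_map_of_injective (K := T0) (f := iK) SemidirectProduct.inl_injective, h1,
      Subgroup.card_subtype, P.card_eq_multiplicity, hcK]
  refine ⟨Sylow.ofCard T0 hcard, fun a x hx => ?_⟩
  have h := (Subgroup.le_normalizer_iff.1 hP) (iA a) ⟨a, rfl⟩ (iK x) hx
  show iK (φ a x) ∈ P'
  rw [show iK (φ a x) = iA a * iK x * (iA a)⁻¹ by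
    show SemidirectProduct.inl (φ a x) = _
    rw [SemidirectProduct.inl_aut, map_inv]]
  exact h

/-- The restriction of an action to an invariant subgroup. -/
def restrictAut {K A : Type*} [Group K] [Group A] (φ : A →* MulAut K) (H : Subgroup K)
    (h : ∀ a, ∀ x ∈ H, φ a x ∈ H) : A →* MulAut ↥H where
  toFun a :=
    { toFun := fun x => ⟨φ a x, h a x x.2⟩
      invFun := fun x => ⟨φ a⁻¹ x, h _ x x.2⟩
      left_inv := fun x => Subtype.ext (by
        show φ a⁻¹ (φ a x) = x
        rw [← MulAut.mul_apply, ← map_mul, inv_mul_cancel, map_one, MulAut.one_apply])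
      right_inv := fun x => Subtype.ext (by
        show φ a (φ a⁻¹ x) = x
        rw [← MulAut.mul_apply, ← map_mul, mul_inv_cancel, map_one, MulAut.one_apply])
      map_mul' := fun x y => Subtype.ext (map_mul (φ a) (x : K) (y : K)) }
  map_one' := by
    ext x
    show φ 1 (x : K) = x
    rw [map_one, MulAut.one_apply]
  map_mul' a b := by
    ext x
    show φ (a * b) (x : K) = φ a (φ b (x : K))
    rw [map_mul, MulAut.mul_apply]

lemma invariant_commutator {K A : Type*} [Group K] [Group A] (φ : A →* MulAut K)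
    {H L : Subgroup K} (hH : ∀ a, ∀ x ∈ H, φ a x ∈ H) (hL : ∀ a, ∀ x ∈ L, φ a x ∈ L) :
    ∀ a, ∀ x ∈ ⁅H, L⁆, φ a x ∈ ⁅H, L⁆ := fun a x hx => by
  have hle : (⁅H, L⁆).map (φ a).toMonoidHom ≤ ⁅H, L⁆ := by
    rw [Subgroup.map_commutator]
    apply Subgroup.commutator_mono
    · rintro _ ⟨k, hk, rfl⟩; exact hH a k hk
    · rintro _ ⟨k, hk, rfl⟩; exact hL a k hk
  exact hle (Subgroup.mem_map_of_mem _ hx)

lemma invariant_sup {K A : Type*} [Group K] [Group A] (φ : A →* MulAut K)
    {H L : Subgroup K} (hH : ∀ a, ∀ x ∈ H, φ a x ∈ H) (hL : ∀ a, ∀ x ∈ L, φ a x ∈ L) :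
    ∀ a, ∀ x ∈ H ⊔ L, φ a x ∈ H ⊔ L := fun a x hx => by
  have hle : (H ⊔ L).map (φ a).toMonoidHom ≤ H ⊔ L := by
    rw [Subgroup.map_sup]
    apply sup_le_sup
    · rintro _ ⟨k, hk, rfl⟩; exact hH a k hk
    · rintro _ ⟨k, hk, rfl⟩; exact hL a k hk
  exact hle (Subgroup.mem_map_of_mem _ hx)

universe u

variable {A k U : Type*} [Group A] [Finite A] [Field k] [IsAlgClosed k] [AddCommGroup U]
  [Module k U] [FiniteDimensional k U]

theorem eq_bot_aux (D : PQData A) (hAk : (Nat.card A : k) ≠ 0) (πA : A →* Module.End k U)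
    (hsum : ∀ [Fintype A], ∑ a, πA a = 0) (n : ℕ) :
    ∀ (K : Type u) [Group K] [Finite K] [Group.IsSolvable K] (φ : A →* MulAut K),
      (Nat.card A).Coprime (Nat.card K) → (∀ g, (∀ a, φ a g = g) → g = 1) →
      ∀ ρ : K →* Module.End k U, (∀ a x, πA a * ρ x = ρ (φ a x) * πA a) →
      ∀ (S : Subgroup K) [S.Normal], (∀ a, ∀ x ∈ S, φ a x ∈ S) → Group.IsNilpotent ↥S →
      ⁅S, (⊤ : Subgroup K)⁆ = S → (Nat.card ↥S : k) ≠ 0 → (∀ x ∈ S, ρ x = 1 → x = 1) →
      Nat.card K + Nat.card ↥S ≤ n → S = ⊥ := by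
  induction n with
  | zero =>
    intro K _ _ _ φ _ _ ρ _ S _ _ _ _ _ _ hn
    have h1 : 0 < Nat.card K := Nat.card_pos
    omega
  | succ n ih =>
    intro K _ _ _ φ hcop hfpf ρ hint S hSn hSinv hSnil hSK hSk hinj hn
    classical
    by_contra hSne
    -- induction on a subgroup
    have hsub : ∀ N T0 : Subgroup K, N ≤ S → (∀ a, ∀ x ∈ N, φ a x ∈ N) →
        (∀ a, ∀ x ∈ T0, φ a x ∈ T0) → T0 ≤ Subgroup.normalizer (N : Set K) →
        (Nat.card ↥T0).Coprime (Nat.card ↥N) →
        Nat.card ↥(N ⊔ T0) + Nat.card ↥⁅N, T0⁆ < Nat.card K + Nat.card ↥S → ⁅N, T0⁆ = ⊥ := by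
      intro N T0 hNS hNinv hTinv hTN hco hlt
      set N1 := ⁅N, T0⁆ with hN1
      have hN1N : N1 ≤ N := Coprime.commutator_le_of_normalizes hTN
      have hN1K0 : N1 ≤ N ⊔ T0 := hN1N.trans le_sup_left
      have hK0n : N ⊔ T0 ≤ Subgroup.normalizer (N1 : Set K) :=
        sup_le (Coprime.le_normalizer_commutator_left N T0)
          (Coprime.le_normalizer_commutator_right N T0)
      have hN1T : ⁅N1, T0⁆ = N1 :=
        Coprime.commutator_commutator_eq T0 N hTN hco (Or.inl inferInstance)
      have hN1inv := invariant_commutator φ hNinv hTinv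
      have hK0inv := invariant_sup φ hNinv hTinv
      let K0 : Subgroup K := N ⊔ T0
      let S0 : Subgroup ↥K0 := N1.subgroupOf K0
      haveI : S0.Normal := (Subgroup.normal_subgroupOf_iff_le_normalizer hN1K0).2 hK0n
      have hS0map : S0.map K0.subtype = N1 := Subgroup.map_subgroupOf_eq_of_le hN1K0
      have hS0card : Nat.card ↥S0 = Nat.card ↥N1 :=
        Nat.card_congr (Subgroup.subgroupOfEquivOfLe hN1K0).toEquiv
      haveI : Group.IsNilpotent ↥S := hSnil
      haveI : Group.IsNilpotent ↥(N1.subgroupOf S) := inferInstance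
      have hS0nil : Group.IsNilpotent ↥S0 :=
        Group.nilpotent_of_mulEquiv ((Subgroup.subgroupOfEquivOfLe (hN1N.trans hNS)).trans
          (Subgroup.subgroupOfEquivOfLe hN1K0).symm)
      have hS0K : ⁅S0, (⊤ : Subgroup ↥K0)⁆ = S0 := by
        apply Subgroup.map_injective K0.subtype_injective
        rw [Subgroup.map_commutator, hS0map, ← MonoidHom.range_eq_map, Subgroup.range_subtype]
        exact le_antisymm (Coprime.commutator_le_of_normalizes hK0n)
          (hN1T.ge.trans (Subgroup.commutator_mono le_rfl le_sup_right))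
      have hdvd : Nat.card ↥S0 ∣ Nat.card ↥S := by
        rw [hS0card]; exact Subgroup.card_dvd_of_le (hN1N.trans hNS)
      have h0 : S0 = ⊥ := by
        refine ih ↥K0 (restrictAut φ K0 hK0inv)
          (hcop.coprime_dvd_right (Subgroup.card_subgroup_dvd_card K0))
          (fun g hg => Subtype.ext (hfpf g fun a => congrArg Subtype.val (hg a)))
          (ρ.comp K0.subtype) (fun a x => hint a x) S0 (fun a x hx => hN1inv a x hx) hS0nil hS0K
          ?_ (fun x hx h1 => Subtype.ext (hinj x (hN1N.trans hNS hx) h1)) ?_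
        · intro h
          obtain ⟨c, hc⟩ := hdvd
          exact hSk (by rw [hc, Nat.cast_mul, h, zero_mul])
        · rw [hS0card]
          show Nat.card ↥(N ⊔ T0) + Nat.card ↥N1 ≤ n
          omega
      rw [← hS0map, h0, Subgroup.map_bot]
    have hinvtop : ∀ a : A, ∀ x ∈ (⊤ : Subgroup K), φ a x ∈ (⊤ : Subgroup K) :=
      fun _ _ _ => Subgroup.mem_top _
    -- `S` is a group of prime power order
    obtain ⟨N, ⟨hNlt, hNn, hNinv⟩, hNmax⟩ : ∃ N : Subgroup K,
        (N < S ∧ N.Normal ∧ ∀ a, ∀ x ∈ N, φ a x ∈ N) ∧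
        ∀ M : Subgroup K, (M < S ∧ M.Normal ∧ ∀ a, ∀ x ∈ M, φ a x ∈ M) → ¬ N < M := by
      obtain ⟨N, hN, hmax⟩ := (wellFounded_gt : WellFounded ((· > ·) : Subgroup K → _ → Prop)).has_min
        {M : Subgroup K | M < S ∧ M.Normal ∧ ∀ a, ∀ x ∈ M, φ a x ∈ M}
        ⟨⊥, bot_lt_iff_ne_bot.2 hSne, inferInstance, fun a x hx => by
          rw [Subgroup.mem_bot] at hx ⊢; rw [hx, map_one]⟩
      exact ⟨N, hN, fun M hM h => hmax M hM h⟩
    obtain ⟨s, hs, Q, hQ⟩ : ∃ s, s.Prime ∧ ∃ Q : Sylow s ↥S,
        ¬ (Q : Subgroup ↥S).map S.subtype ≤ N := by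
      by_contra h
      push_neg at h
      exact hNlt.not_ge (Coprime.le_of_forall_sylow_le fun p hp Q => h p hp Q)
    haveI : Fact s.Prime := ⟨hs⟩
    haveI := hSnil
    haveI hQn : (Q : Subgroup ↥S).Normal :=
      (Group.isNilpotent_of_finite_tfae (G := ↥S)).out 0 3 rfl rfl |>.mp hSnil s ‹_› Q
    haveI hQc : (Q : Subgroup ↥S).Characteristic := Q.characteristic_of_normal hQn
    let P : Subgroup K := (Q : Subgroup ↥S).map S.subtype
    have hPS : P ≤ S := Subgroup.map_subtype_le _
    haveI hPn : P.Normal := ConjAct.normal_of_characteristic_of_normal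
    have hPinv : ∀ a, ∀ x ∈ P, φ a x ∈ P := by
      rintro a _ ⟨y, hy, rfl⟩
      exact ⟨restrictAut φ S hSinv a y,
        Subgroup.characteristic_iff_map_le.1 hQc (restrictAut φ S hSinv a)
          (Subgroup.mem_map_of_mem _ hy), rfl⟩
    have hSp : IsPGroup s ↥S := by
      obtain ⟨γ, hγ0, hγs⟩ : ∃ γ : ℕ → Subgroup K,
          γ 0 = P ∧ ∀ i, γ (i + 1) = ⁅γ i, (⊤ : Subgroup K)⁆ :=
        ⟨fun i => Nat.rec P (fun _ X => ⁅X, (⊤ : Subgroup K)⁆) i, rfl, fun _ => rfl⟩
      have hγn : ∀ i, (γ i).Normal := by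
        intro i
        induction i with
        | zero => rw [hγ0]; exact hPn
        | succ i hi =>
          rw [hγs]
          exact @Subgroup.commutator_normal _ _ (γ i) ⊤ hi inferInstance
      have hγle : ∀ i, γ (i + 1) ≤ γ i := fun i => by
        haveI := hγn i
        rw [hγs]; exact Subgroup.commutator_le_left _ _
      have hγinv : ∀ i, ∀ a, ∀ x ∈ γ i, φ a x ∈ γ i := by
        intro i
        induction i with
        | zero => rw [hγ0]; exact hPinv
        | succ i hi => rw [hγs]; exact invariant_commutator φ hi hinvtop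
      have hγP : ∀ i, γ i ≤ P := by
        intro i
        induction i with
        | zero => rw [hγ0]
        | succ i hi => exact (hγle i).trans hi
      have hSγ : ∀ i, S ≤ γ i ⊔ N := by
        intro i
        induction i with
        | zero =>
          rw [hγ0]
          by_contra hle
          have hPN : P ⊔ N ≤ S := sup_le hPS hNlt.le
          exact hNmax (P ⊔ N) ⟨lt_of_le_not_ge hPN hle, inferInstance, invariant_sup φ hPinv hNinv⟩
            (lt_of_le_not_ge le_sup_right fun h => hQ (le_sup_left.trans h))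
        | succ i hi =>
          haveI := hγn (i + 1)
          haveI := hγn i
          have hle : ⁅γ i ⊔ N, (⊤ : Subgroup K)⁆ ≤ γ (i + 1) ⊔ N := by
            have hc : γ i ⊔ N ≤ (Subgroup.center (K ⧸ (γ (i + 1) ⊔ N))).comap
                (QuotientGroup.mk' (γ (i + 1) ⊔ N)) := by
              refine sup_le ?_ ?_
              · intro x hx
                rw [Subgroup.mem_comap, Subgroup.mem_center_iff]
                intro y
                obtain ⟨w, hw⟩ := QuotientGroup.mk'_surjective _ y
                have h : ⁅x, w⁆ ∈ γ (i + 1) ⊔ N := Subgroup.mem_sup_left (by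
                  rw [hγs]
                  exact Subgroup.commutator_mem_commutator hx (Subgroup.mem_top w))
                have h' := (QuotientGroup.eq_one_iff _).2 h
                rw [← QuotientGroup.mk'_apply, map_commutatorElement,
                  commutatorElement_eq_one_iff_commute] at h'
                rw [← hw]
                exact h'.eq.symm
              · intro x hx
                rw [Subgroup.mem_comap, QuotientGroup.mk'_apply,
                  (QuotientGroup.eq_one_iff x).2 (Subgroup.mem_sup_right hx)]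
                exact one_mem _
            rw [Subgroup.commutator_le]
            intro x hx y _
            rw [← QuotientGroup.eq_one_iff, ← QuotientGroup.mk'_apply, map_commutatorElement,
              commutatorElement_eq_one_iff_commute]
            exact (Subgroup.mem_center_iff.1 (hc hx) _).symm
          exact hSK.ge.trans ((Subgroup.commutator_mono hi le_rfl).trans hle)
      obtain ⟨i, hi⟩ : ∃ i, γ (i + 1) = γ i := by
        obtain ⟨M, ⟨i, rfl⟩, hmin⟩ :=
          (wellFounded_lt : WellFounded ((· < ·) : Subgroup K → _ → Prop)).has_min (Set.range γ)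
            (Set.range_nonempty γ)
        exact ⟨i, ((hγle i).lt_or_eq.resolve_left fun h => hmin _ ⟨i + 1, rfl⟩ h)⟩
      have hγne : γ i ≠ ⊥ := fun h => hNlt.not_ge (by simpa [h] using hSγ i)
      rcases em (γ i = S) with hlt | hlt
      · have hPeq : P = S := le_antisymm hPS (hlt ▸ hγP i)
        rw [← hPeq]
        exact Q.isPGroup'.map S.subtype
      · exfalso
        haveI := hγn i
        have hle : γ i ≤ S := (hγP i).trans hPS
        haveI : Group.IsNilpotent ↥((γ i).subgroupOf S) := inferInstance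
        have hlt' : Nat.card ↥(γ i) < Nat.card ↥S :=
          lt_of_not_ge fun h => hlt (Subgroup.eq_of_le_of_card_ge hle h)
        refine hγne (ih K φ hcop hfpf ρ hint (γ i) (hγinv i)
          (Group.nilpotent_of_mulEquiv (Subgroup.subgroupOfEquivOfLe hle))
          ((hγs i).symm.trans hi) ?_ (fun x hx => hinj x (hle hx)) (by omega))
        intro h
        obtain ⟨c, hc⟩ := Subgroup.card_dvd_of_le hle
        exact hSk (by rw [hc, Nat.cast_mul, h, zero_mul])
    -- an invariant Sylow subgroup not centralizing `S`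
    obtain ⟨t, ht, hts, T, hTinv, hTS⟩ : ∃ t, t.Prime ∧ t ≠ s ∧ ∃ T : Sylow t K,
        (∀ a, ∀ x ∈ (T : Subgroup K), φ a x ∈ (T : Subgroup K)) ∧
        ⁅S, (T : Subgroup K)⁆ ≠ ⊥ := by
      by_contra hcon
      push_neg at hcon
      obtain ⟨R⟩ : Nonempty (Sylow s K) := inferInstance
      let C : Subgroup K := Subgroup.centralizer (S : Set K)
      haveI : C.Normal := inferInstanceAs (Subgroup.centralizer (S : Set K)).Normal
      have htop : (R : Subgroup K) ⊔ C = ⊤ := by
        apply Subgroup.eq_top_of_card_eq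
        refine Nat.dvd_antisymm (Subgroup.card_subgroup_dvd_card _) ?_
        rw [← Nat.factorization_le_iff_dvd Nat.card_pos.ne' Nat.card_pos.ne']
        intro p
        by_cases hp : p.Prime
        · haveI := Fact.mk hp
          have h1 : p ^ (Nat.card K).factorization p ∣ Nat.card ↥((R : Subgroup K) ⊔ C) := by
            by_cases hps : p = s
            · subst hps
              rw [← R.card_eq_multiplicity]
              exact Subgroup.card_dvd_of_le le_sup_left
            · obtain ⟨T, hT⟩ := exists_invariant_sylow_aut φ hcop p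
              have hTC : (T : Subgroup K) ≤ C :=
                Subgroup.commutator_eq_bot_iff_le_centralizer.1
                  (by rw [Subgroup.commutator_comm]; exact hcon p hp hps T hT)
              rw [← T.card_eq_multiplicity]
              exact Subgroup.card_dvd_of_le (hTC.trans le_sup_right)
          exact (hp.pow_dvd_iff_le_factorization Nat.card_pos.ne').1 h1
        · simp [Nat.factorization_eq_zero_of_not_prime _ hp]
      refine (Coprime.commutator_lt_of_isPGroup hSp R.isPGroup'
        (Subgroup.le_normalizer_iff.2 fun x _ y hy => hSn.conj_mem y hy x) hSne).not_ge ?_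
      refine hSK.ge.trans (Subgroup.commutator_le.2 fun x hx g _ => ?_)
      obtain ⟨r, hr, c, hc, rfl⟩ := Subgroup.mem_sup_of_normal_right.1 (htop ▸ Subgroup.mem_top g)
      have hxc : ⁅x, c⁆ = 1 := commutatorElement_eq_one_iff_commute.2
        (Subgroup.mem_centralizer_iff.1 hc x hx)
      rw [commutatorElement_mul_right_eq_mul_conj, hxc, mul_one, mul_assoc, mul_inv_cancel, mul_one]
      exact Subgroup.commutator_mem_commutator hx hr
    haveI : Fact t.Prime := ⟨ht⟩
    have hTn : ∀ X : Subgroup K, X.Normal → (T : Subgroup K) ≤ Subgroup.normalizer (X : Set K) :=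
      fun X hX => Subgroup.le_normalizer_iff.2 fun x _ y hy => hX.conj_mem y hy x
    have hco : ∀ T0 X : Subgroup K, T0 ≤ (T : Subgroup K) → X ≤ S →
        (Nat.card ↥T0).Coprime (Nat.card ↥X) := by
      intro T0 X h1 h2
      obtain ⟨i, hi⟩ := IsPGroup.iff_card.1 T.isPGroup'
      obtain ⟨j, hj⟩ := IsPGroup.iff_card.1 hSp
      refine Nat.Coprime.coprime_dvd_left (Subgroup.card_dvd_of_le h1)
        (Nat.Coprime.coprime_dvd_right (Subgroup.card_dvd_of_le h2) ?_)
      rw [hi, hj]
      exact ((Nat.coprime_primes ht hs).2 hts).pow i j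
    have hle1 : ⁅S, (T : Subgroup K)⁆ ≤ S := Subgroup.commutator_le_left _ _
    have hfull : S ⊔ (T : Subgroup K) = ⊤ ∧ ⁅S, (T : Subgroup K)⁆ = S := by
      have hK0 := Subgroup.card_le_card_group (S ⊔ (T : Subgroup K))
      have hX := Nat.le_of_dvd Nat.card_pos (Subgroup.card_dvd_of_le hle1)
      by_contra hcon
      refine hTS (hsub S T le_rfl hSinv hTinv (hTn S hSn) (hco T S le_rfl le_rfl) ?_)
      by_cases h1 : S ⊔ (T : Subgroup K) = ⊤
      · have h2 : Nat.card ↥⁅S, (T : Subgroup K)⁆ < Nat.card ↥S :=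
          lt_of_not_ge fun h => hcon ⟨h1, Subgroup.eq_of_le_of_card_ge hle1 h⟩
        omega
      · have h2 : Nat.card ↥(S ⊔ (T : Subgroup K)) < Nat.card K :=
          lt_of_le_of_ne hK0 fun h => h1 (Subgroup.eq_top_of_card_eq _ h)
        omega
    have hmin : ∀ N : Subgroup K, N < S → N.Normal → (∀ a, ∀ x ∈ N, φ a x ∈ N) →
        ∀ x ∈ (T : Subgroup K), ∀ m ∈ N, x * m = m * x := by
      intro N hN hNn hNinv x hx m hm
      have h1 := Subgroup.card_le_card_group (N ⊔ (T : Subgroup K))
      have h2 : Nat.card ↥⁅N, (T : Subgroup K)⁆ ≤ Nat.card ↥N :=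
        Nat.le_of_dvd Nat.card_pos (Subgroup.card_dvd_of_le (haveI := hNn; Subgroup.commutator_le_left _ _))
      have h3 : Nat.card ↥N < Nat.card ↥S :=
        lt_of_not_ge fun h => hN.ne (Subgroup.eq_of_le_of_card_ge hN.le h)
      have h := hsub N T hN.le hNinv hTinv (hTn N hNn) (hco T N le_rfl hN.le) (by omega)
      exact (commutatorElement_eq_one_iff_commute.1
        (Subgroup.mem_bot.1 (h ▸ Subgroup.commutator_mem_commutator hm hx))).eq.symm
    -- the derived subgroup of `S` is central
    haveI : Nontrivial ↥S := (Subgroup.nontrivial_iff_ne_bot S).2 hSne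
    have hSS : ⁅S, S⁆ < S := by
      refine lt_of_le_of_ne (Subgroup.commutator_le_self S) fun h => ?_
      refine (Group.IsSolvable.commutator_lt_top_of_nontrivial ↥S).ne
        (Subgroup.map_injective S.subtype_injective ?_)
      rw [Subgroup.map_subtype_commutator, ← MonoidHom.range_eq_map, Subgroup.range_subtype, h]
    have hSSinv := invariant_commutator φ hSinv hSinv
    have hSST : ⁅⁅S, S⁆, (T : Subgroup K)⁆ = ⊥ := by
      rw [Subgroup.commutator_eq_bot_iff_le_centralizer]
      intro m hm
      rw [Subgroup.mem_centralizer_iff]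
      intro x hx
      exact hmin _ hSS inferInstance hSSinv x hx m hm
    have hSS' : ⁅S, ⁅S, S⁆⁆ = ⊥ := by
      have h : ⁅⁅S, (T : Subgroup K)⁆, ⁅S, S⁆⁆ = ⊥ := by
        apply Subgroup.commutator_commutator_eq_bot_of_rotate
        · rw [Subgroup.commutator_comm (T : Subgroup K), hSST, Subgroup.commutator_bot_left]
        · rw [eq_bot_iff, ← hSST]
          exact Subgroup.commutator_mono (Subgroup.commutator_le_left _ _) le_rfl
      rwa [hfull.2] at h
    have hS'c : ∀ z ∈ ⁅S, S⁆, ∀ x : K, x * z = z * x := by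
      intro z hz x
      obtain ⟨a, ha, b, hb, rfl⟩ :=
        Subgroup.mem_sup_of_normal_left.1 (hfull.1 ▸ Subgroup.mem_top x)
      have h1 : Commute a z := commutatorElement_eq_one_iff_commute.1
        (Subgroup.mem_bot.1 (hSS' ▸ Subgroup.commutator_mem_commutator ha hz))
      exact (h1.mul_left (hmin _ hSS inferInstance hSSinv b hb z hz)).eq
    -- `T` has trivial action of its derived subgroup
    have hT' : ∀ x ∈ (T : Subgroup K), ∀ y ∈ (T : Subgroup K), ∀ m ∈ S, Commute ⁅x, y⁆ m := by
      let T' : Subgroup K := ⁅(T : Subgroup K), (T : Subgroup K)⁆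
      have hTne : (T : Subgroup K) ≠ ⊥ := fun h => hTS (by rw [h, Subgroup.commutator_bot_right])
      haveI : Nontrivial ↥(T : Subgroup K) := (Subgroup.nontrivial_iff_ne_bot _).2 hTne
      have hT'lt : T' < (T : Subgroup K) := by
        refine lt_of_le_of_ne (Subgroup.commutator_le_self _) fun h => ?_
        refine (Group.IsSolvable.commutator_lt_top_of_nontrivial ↥(T : Subgroup K)).ne
          (Subgroup.map_injective (T : Subgroup K).subtype_injective ?_)
        rw [Subgroup.map_subtype_commutator, ← MonoidHom.range_eq_map, Subgroup.range_subtype]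
        exact h
      have hn' : T' ≤ Subgroup.normalizer (S : Set K) :=
        Subgroup.le_normalizer_iff.2 fun x _ y hy => hSn.conj_mem y hy x
      have hinf : S ⊓ T' = ⊥ := Coprime.inf_eq_bot_of_coprime_dvd dvd_rfl dvd_rfl
        (hco T' S hT'lt.le le_rfl).symm
      have hcard : Nat.card ↥(S ⊔ T') < Nat.card K := by
        have e1 : Nat.card ↥(T' ⊔ S) = Nat.card ↥T' * Nat.card ↥S :=
          Coprime.card_sup_of_disjoint hn' hinf
        have e2 : Nat.card ↥((T : Subgroup K) ⊔ S) = Nat.card ↥(T : Subgroup K) * Nat.card ↥S :=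
          Coprime.card_sup_of_disjoint (hTn S hSn)
            (Coprime.inf_eq_bot_of_coprime_dvd dvd_rfl dvd_rfl (hco T S le_rfl le_rfl).symm)
        rw [sup_comm, hfull.1, Subgroup.card_top] at e2
        rw [sup_comm, e1, e2]
        exact Nat.mul_lt_mul_of_pos_right
          (lt_of_not_ge fun h => hT'lt.ne (Subgroup.eq_of_le_of_card_ge hT'lt.le h)) Nat.card_pos
      have hX := Nat.le_of_dvd Nat.card_pos
        (Subgroup.card_dvd_of_le (Subgroup.commutator_le_left S T'))
      have h := hsub S T' le_rfl hSinv (invariant_commutator φ hTinv hTinv) hn'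
        (hco T' S hT'lt.le le_rfl) (by omega)
      intro x hx y hy m hm
      exact (commutatorElement_eq_one_iff_commute.1 (Subgroup.mem_bot.1 (h ▸
        Subgroup.commutator_mem_commutator hm (Subgroup.commutator_mem_commutator hx hy)))).symm
    exact hSne (eq_bot_of_minimal D φ hcop hfpf hAk ρ πA hint hsum S T hSinv hTinv hfull.1 hSK s t
      hSp hSk T.isPGroup' hts hmin hT' hS'c hinj)

/-- A normal invariant nilpotent subgroup without central chief factor acts trivially on a
representation of trace zero. -/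
theorem eq_bot_of_trace_zero (D : PQData A) (hAk : (Nat.card A : k) ≠ 0)
    (πA : A →* Module.End k U) (hsum : ∀ [Fintype A], ∑ a, πA a = 0) {K : Type u} [Group K]
    [Finite K] [Group.IsSolvable K] (φ : A →* MulAut K)
    (hcop : (Nat.card A).Coprime (Nat.card K)) (hfpf : ∀ g, (∀ a, φ a g = g) → g = 1)
    (ρ : K →* Module.End k U) (hint : ∀ a x, πA a * ρ x = ρ (φ a x) * πA a)
    (S : Subgroup K) [S.Normal] (hSinv : ∀ a, ∀ x ∈ S, φ a x ∈ S) (hSnil : Group.IsNilpotent ↥S)
    (hSK : ⁅S, (⊤ : Subgroup K)⁆ = S) (hSk : (Nat.card ↥S : k) ≠ 0)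
    (hinj : ∀ x ∈ S, ρ x = 1 → x = 1) : S = ⊥ :=
  eq_bot_aux D hAk πA hsum _ K φ hcop hfpf ρ hint S hSinv hSnil hSK hSk hinj le_rfl

end CfsgLib.PQFPF
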