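import Cfsg.Agent.Lib.PQFPF.Count

/-!
# The commutator space of an element without fixed vectors

Combining the counting lemma with the fact that non-degenerate alternating pairings live on groups
of square order.
-/

namespace CfsgLib.PQFPF

open Module (finrank)

/-- A group with a non-degenerate alternating pairing has square order. -/
theorem exists_card_eq_sq {V k : Type*} [CommGroup V] [Finite V] [Field k] [IsAlgClosed k]
    (hV : (Nat.card V : k) ≠ 0) (β : V →* V →* kˣ) (halt : ∀ v, β v v = 1)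
    (hnd : ∀ v, (∀ w, β v w = 1) → v = 1) : ∃ n, Nat.card V = n ^ 2 := by
  classical
  haveI : Fintype V := Fintype.ofFinite V
  have hanti : ∀ v w, β v w = (β w v)⁻¹ := fun v w => by
    have h := halt (v * w)
    simp only [map_mul, MonoidHom.mul_apply, halt, one_mul, mul_one] at h
    exact eq_inv_of_mul_eq_one_right h
  obtain ⟨L, hL, hLmax⟩ := (wellFounded_gt : WellFounded ((· > ·) : Subgroup V → _ → Prop)).has_min
    {L : Subgroup V | ∀ a ∈ L, ∀ b ∈ L, β a b = 1}
    ⟨⊥, fun a ha b hb => by rw [Subgroup.mem_bot.1 ha, map_one]; rfl⟩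
  have hLperp : ∀ x, (∀ l ∈ L, β x l = 1) → x ∈ L := by
    intro x hx
    by_contra hxL
    refine hLmax (L ⊔ Subgroup.zpowers x) ?_ ?_
    · intro a ha b hb
      obtain ⟨l, hl, y, ⟨i, rfl⟩, rfl⟩ := Subgroup.mem_sup.1 ha
      obtain ⟨l', hl', y', ⟨j, rfl⟩, rfl⟩ := Subgroup.mem_sup.1 hb
      have hlx : β l x = 1 := by rw [hanti, hx l hl, inv_one]
      simp only [map_mul, map_zpow, MonoidHom.mul_apply, MonoidHom.zpow_apply, hL l hl l' hl',
        hx l' hl', halt, hlx, one_zpow, mul_one]
    · exact lt_of_le_of_ne le_sup_left (fun h => hxL (h.symm ▸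
        Subgroup.mem_sup_right (Subgroup.mem_zpowers x)))
  have hLcard : ((Fintype.card ↥L) : k) ≠ 0 := fun h => hV (by
    obtain ⟨c, hc⟩ := Subgroup.card_subgroup_dvd_card L
    rw [hc, Nat.card_eq_fintype_card, Nat.cast_mul, h, zero_mul])
  haveI : Finite (↥L →* kˣ) := finite_dual hLcard
  -- `V / L` embeds in the dual of `L`
  let Φ : V →* (↥L →* kˣ) :=
    { toFun := fun v => (β v).comp L.subtype
      map_one' := MonoidHom.ext fun l => by simp
      map_mul' := fun v w => MonoidHom.ext fun l => by simp }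
  have hΦker : Φ.ker = L := by
    ext v
    refine ⟨fun h => hLperp v fun l hl => DFunLike.congr_fun (MonoidHom.mem_ker.1 h) ⟨l, hl⟩,
      fun h => MonoidHom.mem_ker.2 (MonoidHom.ext fun l => hL v h l l.2)⟩
  have h1 : L.index ≤ Nat.card ↥L := by
    rw [← hΦker, Subgroup.index_ker, hΦker, Nat.card_eq_fintype_card (α := ↥L),
      ← card_dual (k := k) hLcard]
    exact Nat.card_le_card_of_injective _ Subtype.val_injective
  -- `L` embeds in the dual of `V / L`
  have hQcard : ((Fintype.card (V ⧸ L)) : k) ≠ 0 := fun h => hV (by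
    obtain ⟨c, hc⟩ := Subgroup.card_quotient_dvd_card L
    rw [hc, Nat.card_eq_fintype_card, Nat.cast_mul, h, zero_mul])
  haveI : Finite ((V ⧸ L) →* kˣ) := finite_dual hQcard
  let Ψ : ↥L → ((V ⧸ L) →* kˣ) := fun l =>
    QuotientGroup.lift L (β l) (fun v hv => hL l l.2 v hv)
  have hΨ : Function.Injective Ψ := by
    intro a b h
    apply Subtype.ext
    apply inv_mul_eq_one.1
    apply hnd
    intro w
    have h' := DFunLike.congr_fun h (w : V ⧸ L)
    simp only [Ψ, QuotientGroup.lift_mk] at h'
    rw [map_mul, map_inv, MonoidHom.mul_apply, MonoidHom.inv_apply,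
      show β (a : V) w = β (b : V) w from h', inv_mul_cancel]
  have h2 : Nat.card ↥L ≤ L.index := by
    rw [Subgroup.index_eq_card, Nat.card_eq_fintype_card (α := V ⧸ L), ← card_dual (k := k) hQcard]
    exact Nat.card_le_card_of_injective Ψ hΨ
  refine ⟨Nat.card ↥L, ?_⟩
  rw [← Subgroup.card_mul_index L, le_antisymm h1 h2, pow_two]

/-- The commutator map of an automorphism of an abelian group. -/
def commHom {V : Type*} [CommGroup V] (τ : MulAut V) : V →* V where
  toFun v := v⁻¹ * τ v
  map_one' := by simp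
  map_mul' v w := by simp only [map_mul, mul_inv]; exact mul_mul_mul_comm _ _ _ _

/-- Combined statement. -/
theorem card_commutator_cases {Q V k U : Type*} [Group Q] [Finite Q] [CommGroup V] [Finite V]
    [Field k] [IsAlgClosed k] [AddCommGroup U] [Module k U] [FiniteDimensional k U] [Nontrivial U]
    (hQ : (Nat.card Q : k) ≠ 0) (ℓ : ℕ) [Fact ℓ.Prime] (hℓk : (ℓ : k) ≠ 0)
    (hcop : ℓ.Coprime (Nat.card Q))
    (π : Q →* Module.End k U) (ν : Q →* V) (hν : Function.Surjective ν)
    (β : V →* V →* kˣ) (hnd : ∀ v, (∀ w, β v w = 1) → v = 1) (halt : ∀ v, β v v = 1)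
    (hrel : ∀ x y, π x * π y = ((β (ν x) (ν y) : kˣ) : k) • (π y * π x))
    (σ : MulAut Q) (τ : MulAut V) (hστ : ∀ x, ν (σ x) = τ (ν x))
    (hτβ : ∀ v w, β (τ v) (τ w) = β v w) (hτ : τ ^ ℓ = 1)
    (s : (Module.End k U)ˣ) (hs : s ^ ℓ = 1)
    (hconj : ∀ x, (s : Module.End k U) * π x = π (σ x) * s)
    (htr : ∑ j ∈ Finset.range ℓ, ((s : Module.End k U) ^ j) = 0) :
    (∀ x ∈ (commHom τ).range, τ x = x → x = 1) ∧
    (∀ y ∈ (commHom τ).range, (∀ x ∈ (commHom τ).range, β x y = 1) → y = 1) ∧
    (∀ v : V, ∃ c r : V, τ c = c ∧ r ∈ (commHom τ).range ∧ v = c * r) ∧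
    ∃ N, Nat.card ↥(commHom τ).range = N ^ 2 ∧ (N = 1 ∨ N = ℓ - 1) := by
  classical
  haveI : Fintype V := Fintype.ofFinite V
  have hℓ : ℓ.Prime := Fact.out
  have hVdvd : Nat.card V ∣ Nat.card Q := Subgroup.card_dvd_of_surjective ν hν
  have hVk : (Nat.card V : k) ≠ 0 := fun h => hQ (by
    obtain ⟨c, hc⟩ := hVdvd; rw [hc, Nat.cast_mul, h, zero_mul])
  have hanti : ∀ v w, β v w = (β w v)⁻¹ := fun v w => by
    have h := halt (v * w)
    simp only [map_mul, MonoidHom.mul_apply, halt, one_mul, mul_one] at h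
    exact eq_inv_of_mul_eq_one_right h
  set D := commHom τ with hD
  -- no fixed elements in the range
  have hfree : ∀ x ∈ D.range, τ x = x → x = 1 := by
    rintro _ ⟨v, rfl⟩ hx
    have key : ∀ n : ℕ, (τ ^ n) v = v * (v⁻¹ * τ v) ^ n := by
      intro n
      induction n with
      | zero => simp
      | succ n ih =>
        have hx' : τ (v⁻¹ * τ v) = v⁻¹ * τ v := hx
        rw [pow_succ', MulAut.mul_apply, ih, map_mul, map_pow, hx', pow_succ', ← mul_assoc v,
          mul_inv_cancel_left]
    have h1 : (v⁻¹ * τ v) ^ ℓ = 1 := by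
      have := key ℓ
      rw [hτ, MulAut.one_apply] at this
      exact mul_left_cancel (a := v) (this.symm.trans (mul_one v).symm)
    have h2 := pow_gcd_eq_one.2 ⟨h1, (pow_card_eq_one' (x := v⁻¹ * τ v))⟩
    rw [(hcop.coprime_dvd_right hVdvd).gcd_eq_one, pow_one] at h2
    exact h2
  -- fixed elements are orthogonal to the range
  have hperp : ∀ c, τ c = c → ∀ r ∈ D.range, β c r = 1 := by
    rintro c hc _ ⟨v, rfl⟩
    show β c (v⁻¹ * τ v) = 1
    rw [map_mul, map_inv]
    conv_lhs => arg 2; rw [← hc, hτβ]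
    exact inv_mul_cancel _
  -- decomposition
  let C : Subgroup V := D.ker
  have hCmem : ∀ c, c ∈ C ↔ τ c = c := fun c => by
    show c⁻¹ * τ c = 1 ↔ _
    rw [inv_mul_eq_one]; exact eq_comm
  have hcardV : Nat.card V = Nat.card ↥D.range * Nat.card ↥C := by
    rw [← Subgroup.index_ker D, mul_comm]; exact (Subgroup.card_mul_index C).symm
  have hdec : ∀ v : V, ∃ c r : V, τ c = c ∧ r ∈ D.range ∧ v = c * r := by
    have hsurj : Function.Surjective (fun cr : ↥C × ↥D.range => (cr.1 : V) * cr.2) := by
      refine (Function.Injective.bijective_of_nat_card_le ?_ ?_).2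
      · rintro ⟨c, r⟩ ⟨c', r'⟩ h
        have h' : (c : V) * r = c' * r' := h
        have h'' : (c' : V)⁻¹ * c = r' * (r : V)⁻¹ := by
          rw [eq_mul_inv_iff_mul_eq, mul_assoc, h', inv_mul_cancel_left]
        have hfix : τ ((c' : V)⁻¹ * c) = (c' : V)⁻¹ * c := by
          rw [map_mul, map_inv, (hCmem _).1 c.2, (hCmem _).1 c'.2]
        have h1 := hfree _ (by rw [h'']; exact mul_mem r'.2 (inv_mem r.2)) hfix
        have h2 : c' = c := Subtype.ext (inv_mul_eq_one.1 h1)
        subst h2
        exact Prod.ext rfl (Subtype.ext (mul_left_cancel h'))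
      · rw [Nat.card_prod, hcardV, mul_comm]
    intro v
    obtain ⟨⟨c, r⟩, h⟩ := hsurj v
    exact ⟨c, r, (hCmem _).1 c.2, r.2, h.symm⟩
  have hndR : ∀ y ∈ D.range, (∀ x ∈ D.range, β x y = 1) → y = 1 := by
    intro y hy h
    apply hnd
    intro v
    obtain ⟨c, r, hc, hr, rfl⟩ := hdec v
    rw [map_mul, hanti y c, hanti y r, hperp c hc y hy, h r hr, inv_one, mul_one]
  refine ⟨hfree, hndR, hdec, ?_⟩
  -- square order
  let βR : ↥D.range →* ↥D.range →* kˣ :=
    { toFun := fun x => (β (x : V)).comp D.range.subtype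
      map_one' := MonoidHom.ext fun l => by simp
      map_mul' := fun v w => MonoidHom.ext fun l => by simp }
  have hRk : (Nat.card ↥D.range : k) ≠ 0 := fun h => hVk (by
    rw [hcardV, Nat.cast_mul, h, zero_mul])
  obtain ⟨N, hN⟩ := exists_card_eq_sq hRk βR (fun v => halt v) (fun v hv => Subtype.ext
    (hndR v v.2 (fun x hx => by
      have h1 : β (v : V) x = 1 := hv ⟨x, hx⟩
      rw [hanti, h1, inv_one])))
  refine ⟨N, hN, ?_⟩
  -- congruence
  have hmod : Nat.card ↥D.range ≡ 1 [MOD ℓ] := by
    haveI : Fintype ↥D.range := Fintype.ofFinite _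
    let e : Equiv.Perm ↥D.range := Equiv.ofBijective
      (fun x => (⟨τ x, by
        obtain ⟨v, hv⟩ := x.2
        refine ⟨τ v, ?_⟩
        show (τ v)⁻¹ * τ (τ v) = _
        rw [← hv, hD]
        show _ = τ (v⁻¹ * τ v)
        rw [map_mul, map_inv]⟩ : ↥D.range))
      (Finite.injective_iff_bijective.1 fun a b h => Subtype.ext (τ.injective (congrArg Subtype.val h)))
    have hpow : ∀ (n : ℕ) (x : ↥D.range), ((e ^ n) x : V) = (τ ^ n) x := by
      intro n
      induction n with
      | zero => simp
      | succ n ih =>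
        intro x
        rw [pow_succ', pow_succ', Equiv.Perm.mul_apply, MulAut.mul_apply, ← ih]
        rfl
    have he : e ^ ℓ ^ 1 = 1 := Equiv.ext fun x => Subtype.ext (by rw [pow_one, hpow, hτ]; rfl)
    have hm := Equiv.Perm.card_compl_support_modEq he
    have hsupp : e.supportᶜ = {(1 : ↥D.range)} := by
      ext x
      simp only [Finset.mem_compl, Equiv.Perm.mem_support, not_not, Finset.mem_singleton]
      constructor
      · intro hx; exact Subtype.ext (hfree x x.2 (congrArg Subtype.val hx))
      · rintro rfl; exact Subtype.ext (map_one τ)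
    rw [hsupp, Finset.card_singleton, ← Nat.card_eq_fintype_card] at hm
    exact hm.symm
  -- the bound, after restricting to a weight space of the radical
  have hbound : Nat.card ↥D.range ≤ (ℓ - 1) ^ 2 := by
    haveI : Fintype Q := Fintype.ofFinite Q
    have hkcomm : ∀ r, ν r = 1 → ∀ x, π r * π x = π x * π r := fun r hr x => by
      rw [hrel r x, hr, map_one, MonoidHom.one_apply, Units.val_one, one_smul]
    let Rad : Subgroup (Module.End k U)ˣ := ν.ker.map π.toHomUnits
    letI : CommGroup ↥Rad :=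
      { (inferInstance : Group ↥Rad) with
        mul_comm := by
          rintro ⟨_, ⟨a, ha, rfl⟩⟩ ⟨_, ⟨b, hb, rfl⟩⟩
          exact Subtype.ext (Units.ext (hkcomm a ha (b))) }
    haveI : Finite ↥Rad := by
      refine Finite.of_surjective (fun r : ↥ν.ker => (⟨π.toHomUnits r, ⟨r, r.2, rfl⟩⟩ : ↥Rad)) ?_
      rintro ⟨_, ⟨a, ha, rfl⟩⟩
      exact ⟨⟨a, ha⟩, rfl⟩
    letI : Fintype ↥Rad := Fintype.ofFinite _
    have hRaddvd : Nat.card ↥Rad ∣ Nat.card Q :=
      (Subgroup.card_map_dvd _ _).trans (Subgroup.card_subgroup_dvd_card _)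
    have hRadk : (Fintype.card ↥Rad : k) ≠ 0 := fun h => hQ (by
      obtain ⟨c, hc⟩ := hRaddvd
      rw [hc, Nat.card_eq_fintype_card, Nat.cast_mul, h, zero_mul])
    let ρR : ↥Rad →* Module.End k U := (Units.coeHom _).comp Rad.subtype
    haveI := finite_dual (k := k) hRadk
    letI : Fintype (↥Rad →* kˣ) := Fintype.ofFinite _
    obtain ⟨ψ, hψ⟩ : ∃ ψ : ↥Rad →* kˣ, idem ρR ψ ≠ 0 := by
      by_contra h
      push Not at h
      have h1 : (1 : Module.End k U) = 0 := by
        rw [← sum_idem (k := k) ρR hRadk]; exact Finset.sum_eq_zero fun ψ _ => h ψ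
      obtain ⟨u, hu⟩ := exists_ne (0 : U)
      exact hu (by simpa using LinearMap.congr_fun h1 u)
    set P := idem ρR ψ with hP
    have hPπ : ∀ x, Commute (π x) P := fun x => commute_idem ρR (g := π x) (fun z => by
      obtain ⟨_, ⟨a, ha, rfl⟩⟩ := z
      exact (hkcomm a ha x).symm) ψ
    have hPs : Commute (s : Module.End k U) P := by
      have hσker : ∀ a, ν a = 1 → ν (σ a) = 1 := fun a ha => by rw [hστ, ha, map_one]
      have hmem : ∀ z : ↥Rad, s * (z : (Module.End k U)ˣ) * s⁻¹ ∈ Rad := by
        rintro ⟨_, ⟨a, ha, rfl⟩⟩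
        refine ⟨σ a, hσker a ha, ?_⟩
        rw [eq_mul_inv_iff_mul_eq]
        exact Units.ext (hconj a).symm
      let fm : ↥Rad →* ↥Rad :=
        { toFun := fun z => ⟨s * z * s⁻¹, hmem z⟩
          map_one' := Subtype.ext (by simp)
          map_mul' := fun a b => Subtype.ext (by simp only [Subgroup.coe_mul]; group) }
      let f : MulAut ↥Rad := MulEquiv.ofBijective fm (Finite.injective_iff_bijective.1 fun a b h =>
        Subtype.ext (mul_left_cancel (mul_right_cancel (congrArg Subtype.val h))))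
      have hsρ : ∀ z, (s : Module.End k U) * ρR z = ρR (f z) * s := fun z => by
        show ((s * (z : (Module.End k U)ˣ) : (Module.End k U)ˣ) : Module.End k U) =
          (((s * z * s⁻¹) * s : (Module.End k U)ˣ) : Module.End k U)
        rw [inv_mul_cancel_right]
      let act : (↥Rad →* kˣ) → (↥Rad →* kˣ) := fun μ => μ.comp f.symm.toMonoidHom
      have hse : ∀ μ, (s : Module.End k U) * idem ρR μ = idem ρR (act μ) * s :=
        fun μ => semiconj_idem ρR f hsρ μ
      by_cases hfix : act ψ = ψ
      · show _ = _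
        rw [hP, hse, hfix]
      exfalso
      apply hψ
      have hsi : ∀ (i : ℕ) μ, ((s : Module.End k U) ^ i) * idem ρR μ =
          idem ρR (act^[i] μ) * (s : Module.End k U) ^ i := by
        intro i
        induction i with
        | zero => simp
        | succ i ih =>
          intro μ
          rw [pow_succ', mul_assoc, ih, ← mul_assoc, hse, mul_assoc, Function.iterate_succ_apply']
      have hsq : (s : Module.End k U) ^ ℓ = 1 := by
        rw [← Units.val_pow_eq_pow_val, hs, Units.val_one]
      have h0 : P * (∑ j ∈ Finset.range ℓ, (s : Module.End k U) ^ j) * P = 0 := by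
        rw [htr, mul_zero, zero_mul]
      rw [Finset.mul_sum, Finset.sum_mul, Finset.sum_eq_single 0] at h0
      · rwa [pow_zero, mul_one, hP, idem_mul_self ρR hRadk] at h0
      · intro j hj hj0
        rw [mul_assoc, hP, hsi, ← mul_assoc]
        have hne : ψ ≠ act^[j] ψ := by
          intro h
          have hq : act^[ℓ] ψ = ψ := by
            by_contra h'
            have h1 := hsi ℓ ψ
            rw [hsq, one_mul, mul_one] at h1
            exact hψ (by
              calc P = P * P := (idem_mul_self ρR hRadk ψ).symm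
                _ = idem ρR (act^[ℓ] ψ) * P := by rw [hP, ← h1]
                _ = 0 := idem_mul_of_ne ρR hRadk h')
          have hp : Function.IsPeriodicPt act (Nat.gcd j ℓ) ψ :=
            Function.IsPeriodicPt.gcd (f := act) h.symm hq
          rw [Nat.Coprime.gcd_eq_one (Nat.coprime_comm.1 ((hℓ.coprime_iff_not_dvd).2
            (fun hd => absurd (Nat.le_of_dvd (Nat.pos_of_ne_zero hj0) hd)
              (not_le.2 (Finset.mem_range.1 hj)))))] at hp
          exact hfix hp
        rw [idem_mul_of_ne ρR hRadk hne, zero_mul]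
      · intro h; exact absurd (Finset.mem_range.2 hℓ.pos) h
    let W := LinearMap.range P
    have hWmem : ∀ (g : Module.End k U), Commute g P → ∀ w ∈ W, g w ∈ W := by
      rintro g hg _ ⟨v, rfl⟩
      exact ⟨g v, (LinearMap.congr_fun hg.eq v).symm⟩
    haveI : Nontrivial ↥W := by
      rw [Submodule.nontrivial_iff_ne_bot]
      exact fun h => hψ (LinearMap.range_eq_bot.1 h)
    let πW : Q →* Module.End k ↥W :=
      { toFun := fun x => (π x).restrict (hWmem _ (hPπ x))
        map_one' := LinearMap.ext fun w => Subtype.ext (by simp)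
        map_mul' := fun x y => LinearMap.ext fun w => Subtype.ext (by simp) }
    have hPs' : Commute ((s⁻¹ : (Module.End k U)ˣ) : Module.End k U) P := hPs.units_inv_left
    let sW : (Module.End k ↥W)ˣ :=
      { val := (s : Module.End k U).restrict (hWmem _ hPs)
        inv := ((s⁻¹ : (Module.End k U)ˣ) : Module.End k U).restrict (hWmem _ hPs')
        val_inv := LinearMap.ext fun w => Subtype.ext (LinearMap.congr_fun s.mul_inv (w : U))
        inv_val := LinearMap.ext fun w => Subtype.ext (LinearMap.congr_fun s.inv_mul (w : U)) }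
    have hpowW : ∀ (n : ℕ) (w : ↥W), (((sW : Module.End k ↥W) ^ n) w : U) =
        ((s : Module.End k U) ^ n) (w : U) := by
      intro n
      induction n with
      | zero => simp
      | succ n ih =>
        intro w
        rw [pow_succ', pow_succ', Module.End.mul_apply, Module.End.mul_apply, ← ih]
        rfl
    have hinj : Function.Injective β := by
      intro a b h
      apply inv_mul_eq_one.1
      apply hnd
      intro w
      rw [map_mul, map_inv, h, inv_mul_cancel, MonoidHom.one_apply]
    have hscal : ∀ r, ν r = 1 → ∃ a : k, πW r = a • 1 := by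
      intro r hr
      refine ⟨((ψ ⟨π.toHomUnits r, ⟨r, hr, rfl⟩⟩ : kˣ) : k), LinearMap.ext fun w => Subtype.ext ?_⟩
      obtain ⟨v, hv⟩ := w.2
      show π r (w : U) = _ • (w : U)
      rw [← hv]
      exact LinearMap.congr_fun (mul_idem ρR ⟨π.toHomUnits r, ⟨r, hr, rfl⟩⟩ ψ) v
    have h := card_le_mul_card_fixed (Q := Q) (V := V) (k := k) (U := ↥W)
      (by rw [← Nat.card_eq_fintype_card]; exact hVk) ℓ hℓk πW ν hν hscal β hinj
      (fun x y => LinearMap.ext fun w => Subtype.ext (LinearMap.congr_fun (hrel x y) (w : U)))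
      σ τ hστ sW (Units.ext (LinearMap.ext fun w => Subtype.ext (by
        rw [Units.val_pow_eq_pow_val, hpowW, ← Units.val_pow_eq_pow_val, hs]; rfl))) hτ
      (fun x => LinearMap.ext fun w => Subtype.ext (LinearMap.congr_fun (hconj x) (w : U)))
      (LinearMap.ext fun w => Subtype.ext (by
        rw [LinearMap.sum_apply, Submodule.coe_sum]
        simp only [hpowW]
        rw [← LinearMap.sum_apply, htr]
        rfl))
    have hC : Nat.card {v : V // τ v = v} = Nat.card ↥C :=
      Nat.card_congr (Equiv.subtypeEquivRight fun v => (hCmem v).symm)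
    rw [hC, ← Nat.card_eq_fintype_card, hcardV] at h
    exact Nat.le_of_mul_le_mul_right h Nat.card_pos
  -- numbers
  rw [hN] at hmod hbound
  have hNle : N ≤ ℓ - 1 := Nat.pow_le_pow_iff_left two_ne_zero |>.1 hbound
  have hN0 : 0 < N := by
    rcases Nat.eq_zero_or_pos N with rfl | h
    · simp at hN
    · exact h
  obtain ⟨M, rfl⟩ : ∃ M, N = M + 1 := ⟨N - 1, by omega⟩
  have hd : ℓ ∣ M * (M + 2) := by
    have h1 := (Nat.modEq_iff_dvd' (Nat.one_le_pow _ _ hN0)).1 hmod.symm
    have e : (M + 1) ^ 2 - 1 = M * (M + 2) := by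
      have : (M + 1) ^ 2 = M * (M + 2) + 1 := by ring
      omega
    rwa [e] at h1
  rcases (Nat.Prime.dvd_mul hℓ).1 hd with h | h
  · left
    rw [Nat.eq_zero_of_dvd_of_lt h (by omega)]
  · right
    have := Nat.le_of_dvd (by omega) h
    omega

end CfsgLib.PQFPF
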